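import Cfsg.Agent.Lib.BinaryAffine.Irreducible

/-!
A primitive group with an abelian normal subgroup as a group of affine maps, binarity as the
translation property of `Fam`, and the semilinear description of the plane.
-/

set_option autoImplicit false

namespace Cfsg.Agent.BinaryAffine

variable {G Ω : Type*} [Group G] [MulAction G Ω]

/-- The translations. -/
abbrev Trans (N : Subgroup G) := Additive N

/-- An elementary abelian regular normal subgroup. -/
theorem exists_regular [Finite G] [FaithfulSMul G Ω] [Fintype Ω] (hprim : MulAction.IsPreprimitive G Ω)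
    (N₀ : Subgroup G) (hn : N₀.Normal) (hne : N₀ ≠ ⊥) (hc : IsMulCommutative N₀) :
    ∃ (ω₀ : Ω) (p : ℕ) (_ : p.Prime) (N : Subgroup G) (_ : N.Normal) (_ : IsMulCommutative N),
      (∀ n : N, n ^ p = 1) ∧ Function.Bijective (fun v : Trans N => ((Additive.toMul v : N) : G) • ω₀) ∧
        Nontrivial (Trans N) := by
  classical
  have := hprim
  obtain ⟨p, hp, hdvd⟩ := Nat.exists_prime_and_dvd (n := Nat.card N₀)
    (fun h => hne (Subgroup.eq_bot_of_card_eq N₀ h))
  have := Fact.mk hp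
  obtain ⟨x, hx⟩ := exists_prime_orderOf_dvd_card' p hdvd
  let N : Subgroup G :=
    { carrier := {g | g ∈ N₀ ∧ g ^ p = 1}
      one_mem' := ⟨one_mem _, one_pow _⟩
      mul_mem' := fun {a b} ha hb => ⟨mul_mem ha.1 hb.1, by
        rw [Commute.mul_pow (setLike_mul_comm ha.1 hb.1), ha.2, hb.2, one_mul]⟩
      inv_mem' := fun {a} ha => ⟨inv_mem ha.1, by rw [inv_pow, ha.2, inv_one]⟩ }
  have hNn : N.Normal := ⟨fun n hn' g => ⟨hn.conj_mem n hn'.1 g, by rw [conj_pow, hn'.2]; group⟩⟩
  have hNc : IsMulCommutative N :=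
    ⟨⟨fun a b => Subtype.ext (setLike_mul_comm (S := Subgroup G) (s := N₀) a.2.1 b.2.1)⟩⟩
  have hxN : (x : G) ∈ N := ⟨x.2, by
    have := pow_orderOf_eq_one x
    rw [hx] at this
    exact congrArg Subtype.val this⟩
  have hx1 : (x : G) ≠ 1 := fun h => by
    rw [show x = 1 from Subtype.ext h, orderOf_one] at hx
    exact hp.one_lt.ne hx
  obtain ⟨ω₀, hω₀⟩ : ∃ ω : Ω, (x : G) • ω ≠ ω := by
    by_contra h
    push Not at h
    exact hx1 (eq_of_smul_eq_smul fun ω : Ω => by rw [h, one_smul])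
  have hfix : MulAction.fixedPoints N Ω ≠ Set.univ := fun h =>
    hω₀ ((h ▸ Set.mem_univ ω₀ : ω₀ ∈ MulAction.fixedPoints N Ω) ⟨x, hxN⟩)
  have := MulAction.IsQuasiPreprimitive.isPretransitive_of_normal hfix
  refine ⟨ω₀, p, hp, N, hNn, hNc, fun n => Subtype.ext n.2.2, ⟨fun v w hvw => ?_, fun ω => ?_⟩, ?_⟩
  · refine Additive.toMul.injective (Subtype.ext (eq_of_smul_eq_smul fun ω : Ω => ?_))
    obtain ⟨n, rfl⟩ := MulAction.exists_smul_eq N ω₀ ω
    show ((Additive.toMul v : N) : G) • (n : G) • ω₀ = ((Additive.toMul w : N) : G) • (n : G) • ω₀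
    rw [← mul_smul, ← mul_smul, setLike_mul_comm (Additive.toMul v).2 n.2,
      setLike_mul_comm (Additive.toMul w).2 n.2, mul_smul, mul_smul]
    exact congrArg _ hvw
  · obtain ⟨n, hn'⟩ := MulAction.exists_smul_eq N ω₀ ω
    exact ⟨Additive.ofMul n, hn'⟩
  · exact ⟨⟨Additive.ofMul ⟨x, hxN⟩, 0, fun h => hx1 (congrArg Subtype.val (Additive.ofMul.injective (h.trans ofMul_one.symm)))⟩⟩

variable {N : Subgroup G} [hNn : N.Normal] [hNc : IsMulCommutative N] (ω₀ : Ω)

noncomputable instance instAddCommGroupTrans : AddCommGroup (Additive N) :=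
  { (inferInstance : AddGroup (Additive N)) with
    add_comm := fun a b => Additive.toMul.injective (mul_comm' (Additive.toMul a) (Additive.toMul b)) }

omit hNn in
lemma trans_exp (p : ℕ) (h : ∀ n : N, n ^ p = 1) (v : Trans N) : p • v = 0 :=
  Additive.toMul.injective (by rw [toMul_nsmul, toMul_zero]; exact h _)

/-- Conjugation of translations. -/
noncomputable instance instTransAction (H : Subgroup G) : DistribMulAction H (Trans N) where
  smul g v := Additive.ofMul (MulAut.conjNormal (g : G) (Additive.toMul v))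
  one_smul v := Additive.toMul.injective (by
    show MulAut.conjNormal ((1 : H) : G) (Additive.toMul v) = _
    rw [Subgroup.coe_one, map_one]; rfl)
  mul_smul g h v := Additive.toMul.injective (by
    show MulAut.conjNormal (((g * h : H)) : G) (Additive.toMul v) = _
    rw [Subgroup.coe_mul, map_mul]; rfl)
  smul_zero g := Additive.toMul.injective (map_one (MulAut.conjNormal (g : G) : MulAut N))
  smul_add g v w := Additive.toMul.injective (map_mul (MulAut.conjNormal (g : G) : MulAut N) _ _)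

local notation "φ" => fun v : Trans N => ((Additive.toMul v : N) : G) • ω₀

omit hNn in
lemma point_add (v w : Trans N) : φ (v + w) = ((Additive.toMul v : N) : G) • φ w := by
  show ((Additive.toMul (v + w) : N) : G) • ω₀ = _
  rw [toMul_add, Subgroup.coe_mul, mul_smul]

lemma point_smul (g : MulAction.stabilizer G ω₀) (v : Trans N) : φ (g • v) = (g : G) • φ v := by
  show ((MulAut.conjNormal (g : G) (Additive.toMul v) : N) : G) • ω₀ = _
  rw [MulAut.conjNormal_apply, mul_smul, mul_smul]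
  congr 2
  exact inv_smul_eq_iff.2 g.2.symm

theorem setting [Finite G] [FaithfulSMul G Ω]
    (hbin : ∀ (n : ℕ) (I J : Fin n → Ω), 2 ≤ n →
      (∀ i j : Fin n, i ≠ j → ∃ g : G, g • I i = J i ∧ g • I j = J j) → ∃ g : G, ∀ i, g • I i = J i)
    (p : ℕ) [hp : Fact p.Prime] (hNp : ∀ n : N, n ^ p = 1) (hreg : Function.Bijective φ) :
    Setting (MulAction.stabilizer G ω₀) (Trans N) where
  finite := Finite.of_equiv N Additive.ofMul
  finiteG := inferInstance
  faith := ⟨fun {g h} hgh => Subtype.ext (eq_of_smul_eq_smul fun ω : Ω => by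
    obtain ⟨v, rfl⟩ := hreg.2 ω
    rw [← point_smul, ← point_smul, hgh])⟩
  char := by
    rcases hp.out.eq_two_or_odd' with rfl | hodd
    · exact Or.inl fun v => (two_nsmul v).symm.trans (trans_exp 2 hNp v)
    · refine Or.inr fun v hv => ?_
      obtain ⟨l, rfl⟩ := hodd
      have h := trans_exp _ hNp v
      rwa [add_nsmul, mul_comm, mul_nsmul', two_nsmul, hv, nsmul_zero, one_nsmul, zero_add] at h
  fam := by
    intro d
    have : Finite (Trans N) := Finite.of_equiv N Additive.ofMul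
    let X := {x : MulAction.stabilizer G ω₀ × Trans N // x.1 • x.2 = x.2 + d}
    let c := Nat.card X
    let en : X ≃ Fin c := Finite.equivFin X
    let I : Fin (c + 2) → Ω := Fin.append (fun i : Fin c => φ (en.symm i).1.2) (fun _ : Fin 2 => ω₀)
    let J : Fin (c + 2) → Ω := Fin.append (fun i : Fin c => φ ((en.symm i).1.2 + d)) (fun _ : Fin 2 => ω₀)
    have hI : ∀ i, ∃ g : G, g • ω₀ = ω₀ ∧ g • I i = J i := by
      intro i
      induction i using Fin.addCases with
      | left i =>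
        refine ⟨((en.symm i).1.1 : G), (en.symm i).1.1.2, ?_⟩
        simp only [I, J, Fin.append_left]
        rw [← point_smul, (en.symm i).2]
      | right i => exact ⟨1, one_smul _ _, by simp [I, J]⟩
    obtain ⟨k, hk⟩ := hbin (c + 2) I J (by omega) fun i j hij => by
      induction i using Fin.addCases with
      | left i =>
        induction j using Fin.addCases with
        | left j =>
          refine ⟨((Additive.toMul d : N) : G), ?_, ?_⟩
          all_goals
            simp only [I, J, Fin.append_left]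
            rw [add_comm _ d]
            exact (point_add ω₀ d _).symm
        | right j =>
          obtain ⟨g, h1, h2⟩ := hI (Fin.castAdd 2 i)
          exact ⟨g, h2, by simpa [I, J] using h1⟩
      | right i =>
        obtain ⟨g, h1, h2⟩ := hI j
        exact ⟨g, by simpa [I, J] using h1, h2⟩
    have hk0 : k • ω₀ = ω₀ := by simpa [I, J] using hk (Fin.natAdd c 0)
    refine ⟨⟨k, hk0⟩, fun g a hga => hreg.1 ?_⟩
    have h := hk (Fin.castAdd 2 (en ⟨(g, a), hga⟩))
    simp only [I, J, Fin.append_left, Equiv.symm_apply_apply] at h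
    exact (point_smul ω₀ _ _).trans h

theorem irr [FaithfulSMul G Ω] (hprim : MulAction.IsPreprimitive G Ω) (hreg : Function.Bijective φ) :
    Irr (MulAction.stabilizer G ω₀) (Trans N) := by
  intro W hW
  by_cases hWb : W = ⊥
  · exact Or.inl hWb
  refine Or.inr (eq_top_iff.2 fun v _ => ?_)
  have := hprim
  let M : Subgroup G := W.toSubgroup'.map N.subtype
  have hmem : ∀ {n : G}, n ∈ M ↔ ∃ w ∈ W, ((Additive.toMul w : N) : G) = n := fun {n} =>
    ⟨fun ⟨m, hm, e⟩ => ⟨Additive.ofMul m, hm, e⟩, fun ⟨w, hw, e⟩ => ⟨Additive.toMul w, hw, e⟩⟩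
  have hM : M.Normal := ⟨fun n hn g => by
    obtain ⟨w, hw, rfl⟩ := hmem.1 hn
    obtain ⟨u, hu⟩ := hreg.2 (g • ω₀)
    set n : G := ((Additive.toMul u : N) : G) with hn'
    have hh : n⁻¹ * g ∈ MulAction.stabilizer G ω₀ := by
      rw [MulAction.mem_stabilizer_iff, mul_smul, inv_smul_eq_iff]; exact hu.symm
    refine hmem.2 ⟨_, hW ⟨_, hh⟩ w hw, ?_⟩
    show ((MulAut.conjNormal (n⁻¹ * g) (Additive.toMul w) : N) : G) = _
    rw [MulAut.conjNormal_apply]
    have hc : n * (n⁻¹ * g * ((Additive.toMul w : N) : G) * (n⁻¹ * g)⁻¹) =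
        (n⁻¹ * g * ((Additive.toMul w : N) : G) * (n⁻¹ * g)⁻¹) * n :=
      setLike_mul_comm (Additive.toMul u).2 (hNn.conj_mem _ (Additive.toMul w).2 _)
    calc n⁻¹ * g * ((Additive.toMul w : N) : G) * (n⁻¹ * g)⁻¹
        = n * (n⁻¹ * g * ((Additive.toMul w : N) : G) * (n⁻¹ * g)⁻¹) * n⁻¹ := by rw [hc]; group
      _ = _ := by group⟩
  obtain ⟨⟨w, hw⟩, hw0⟩ := AddSubgroup.ne_bot_iff_exists_ne_zero.1 hWb
  have hwω : φ w ≠ ω₀ := fun e => hw0 (Subtype.ext (hreg.1 (a₁ := w) (a₂ := 0) (e.trans (one_smul G ω₀).symm)))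
  have hfix : MulAction.fixedPoints M Ω ≠ Set.univ := fun h =>
    hwω ((h ▸ Set.mem_univ ω₀ : ω₀ ∈ MulAction.fixedPoints M Ω) ⟨_, hmem.2 ⟨w, hw, rfl⟩⟩)
  have := MulAction.IsQuasiPreprimitive.isPretransitive_of_normal hfix
  obtain ⟨⟨x, hx⟩, hxv⟩ := MulAction.exists_smul_eq M ω₀ (φ v)
  obtain ⟨w', hw', rfl⟩ := hmem.1 hx
  rwa [← hreg.1 (a₁ := w') (a₂ := v) hxv]

/-- The semilinear description, on the points. -/
theorem exists_affine [Fintype Ω] (hprim : MulAction.IsPreprimitive G Ω) (hreg : Function.Bijective φ)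
    (p : ℕ) [hp : Fact p.Prime] (m : ℕ) (hm : m ≠ 0) (e : Trans N ≃+ GaloisField p (2 * m))
    (hfwd : ∀ g : MulAction.stabilizer G ω₀, ∃ a : GaloisField p (2 * m), a ^ (p ^ m + 1) = 1 ∧
      ((∀ v, e (g • v) = a * e v) ∨ (∀ v, e (g • v) = a * e v ^ p ^ m)))
    (hback : ∀ a : GaloisField p (2 * m), a ^ (p ^ m + 1) = 1 →
      (∃ g : MulAction.stabilizer G ω₀, ∀ v, e (g • v) = a * e v) ∧
        ∃ g : MulAction.stabilizer G ω₀, ∀ v, e (g • v) = a * e v ^ p ^ m) :
    ∃ (F E : Type) (_ : Field F) (_ : Fintype F) (_ : Field E) (_ : Fintype E) (_ : Algebra F E) (e : Ω ≃ E),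
      Module.finrank F E = 2 ∧
      ∀ σ : Equiv.Perm Ω, σ ∈ (MulAction.toPermHom G Ω).range ↔
        ∃ (a b : E) (ψ : E ≃ₐ[F] E), Algebra.norm F a = 1 ∧ ∀ ω : Ω, e (σ ω) = a * ψ (e ω) + b := by
  classical
  let E := GaloisField p (2 * m)
  let _ : Fintype E := Fintype.ofFinite E
  let frob : E ≃+* E := RingEquiv.ofBijective (iterateFrobenius E p m)
    (Finite.injective_iff_bijective.1 (iterateFrobenius E p m).injective)
  have hfrob : ∀ x : E, frob x = x ^ p ^ m := fun x => iterateFrobenius_def p m x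
  have hEcard : Nat.card E = p ^ (2 * m) := GaloisField.card p _ (by omega)
  have hfrob2 : frob ^ 2 = 1 := RingEquiv.ext fun x => by
    show frob (frob x) = x
    rw [hfrob, hfrob, ← pow_mul, ← pow_add, ← two_mul, ← hEcard, Nat.card_eq_fintype_card, FiniteField.pow_card]
  have hfrob1 : frob ≠ 1 := fun h => by
    obtain ⟨x, hx⟩ := IsCyclic.exists_generator (α := Eˣ)
    have e1 : (x : E) ^ p ^ m = x := (hfrob _).symm.trans (congrArg (fun f : E ≃+* E => f (x : E)) h)
    have e2 : x ^ p ^ m = x ^ 1 := Units.ext (by rw [pow_one]; exact_mod_cast e1)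
    have ho : orderOf x = p ^ (2 * m) - 1 := by
      rw [orderOf_eq_card_of_forall_mem_zpowers hx, Nat.card_units, hEcard]
    have hq : 1 < p ^ m := Nat.one_lt_pow hm hp.out.one_lt
    have hq2 : p ^ (2 * m) = p ^ m * p ^ m := by rw [two_mul, pow_add]
    have hlt : p ^ m < orderOf x := by rw [ho, hq2]; nlinarith [Nat.sub_add_cancel (show 1 ≤ p ^ m * p ^ m by nlinarith)]
    have := pow_injOn_Iio_orderOf (Set.mem_Iio.2 hlt) (Set.mem_Iio.2 (hq.trans hlt)) e2
    omega
  let H : Subgroup (E ≃+* E) := Subgroup.zpowers frob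
  have hord : orderOf frob = 2 := orderOf_eq_prime hfrob2 hfrob1
  have : Finite (E ≃+* E) := Finite.of_injective (fun f => (f : E → E)) DFunLike.coe_injective
  let _ : Fintype H := Fintype.ofFinite H
  have : FaithfulSMul H E := ⟨fun {a b} h => Subtype.ext (RingEquiv.ext h)⟩
  let F := FixedPoints.subfield H E
  let _ : Fintype F := Fintype.ofFinite F
  have hfin : Module.finrank F E = 2 := by
    rw [FixedPoints.finrank_eq_card H E, ← Nat.card_eq_fintype_card, Nat.card_zpowers, hord]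
  have hFcard : Nat.card F = p ^ m := by
    have h := Module.natCard_eq_pow_finrank (K := F) (V := E)
    rw [hfin] at h
    replace h : (p ^ m) ^ 2 = Nat.card F ^ 2 := ((pow_mul p m 2).symm.trans (congrArg (p ^ ·) (mul_comm m 2))).trans (hEcard.symm.trans h)
    exact (Nat.pow_left_injective two_ne_zero h).symm
  have hnorm : ∀ a : E, Algebra.norm F a = 1 ↔ a ^ (p ^ m + 1) = 1 := fun a => by
    have h := FiniteField.algebraMap_norm_eq_pow_sum F E a
    rw [hfin, hFcard, Finset.sum_range_succ, Finset.sum_range_one, pow_zero, pow_one, add_comm] at h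
    refine ⟨fun e => ?_, fun e => (algebraMap F E).injective (by rw [h, e, map_one])⟩
    rw [← h, e, map_one]
  have haut : ∀ ψ : E ≃ₐ[F] E, (∀ x, ψ x = x) ∨ ∀ x, ψ x = x ^ p ^ m := fun ψ => by
    obtain ⟨⟨h, hh⟩, rfl⟩ := (FixedPoints.toAlgAut_bijective H E).2 ψ
    obtain ⟨k, rfl⟩ := Subgroup.mem_zpowers_iff.1 hh
    have he : frob ^ k = frob ^ (k % 2) := by
      rw [← zpow_mod_orderOf, hord]; rfl
    rcases Int.emod_two_eq_zero_or_one k with hk | hk
    · refine Or.inl fun x => ?_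
      show (frob ^ k) x = x
      rw [he, hk, zpow_zero]; rfl
    · refine Or.inr fun x => ?_
      show (frob ^ k) x = _
      rw [he, hk, zpow_one, hfrob]
  let frobA : E ≃ₐ[F] E := MulSemiringAction.toAlgAut H F E ⟨frob, Subgroup.mem_zpowers frob⟩
  let φe : Trans N ≃ Ω := Equiv.ofBijective _ hreg
  let ε : Ω ≃ E := φe.symm.trans e.toEquiv
  have hε : ∀ v : Trans N, ε (φ v) = e v := fun v => congrArg e (φe.symm_apply_apply v)
  refine ⟨F, E, inferInstance, inferInstance, inferInstance, inferInstance, inferInstance, ε, hfin, fun σ => ?_⟩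
  have act : ∀ (u : Trans N) (g₀ : MulAction.stabilizer G ω₀) (v : Trans N),
      ε ((((Additive.toMul u : N) : G) * g₀) • φ v) = e u + e (g₀ • v) := fun u g₀ v => by
    rw [mul_smul, ← point_smul]
    exact (congrArg ε (point_add ω₀ u _).symm).trans ((hε _).trans (map_add e _ _))
  constructor
  · rintro ⟨g, rfl⟩
    obtain ⟨u, hu⟩ := hreg.2 (g • ω₀)
    have hh : ((Additive.toMul u : N) : G)⁻¹ * g ∈ MulAction.stabilizer G ω₀ := by
      rw [MulAction.mem_stabilizer_iff, mul_smul, inv_smul_eq_iff]; exact hu.symm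
    obtain ⟨a, ha, h⟩ := hfwd ⟨_, hh⟩
    have key : ∀ v, ε (g • φ v) = e u + e ((⟨_, hh⟩ : MulAction.stabilizer G ω₀) • v) := fun v => by
      have := act u ⟨_, hh⟩ v
      rwa [mul_inv_cancel_left] at this
    rcases h with h | h
    · refine ⟨a, e u, AlgEquiv.refl, (hnorm a).2 ha, fun ω => ?_⟩
      obtain ⟨v, rfl⟩ := hreg.2 ω
      show ε (g • φ v) = a * ε (φ v) + e u
      rw [key, h, hε, add_comm]
    · refine ⟨a, e u, frobA, (hnorm a).2 ha, fun ω => ?_⟩
      obtain ⟨v, rfl⟩ := hreg.2 ω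
      show ε (g • φ v) = a * frob (ε (φ v)) + e u
      rw [key, h, hfrob, hε, add_comm]
  · rintro ⟨a, b, ψ, ha, hσ⟩
    obtain ⟨h1, h2⟩ := hback a ((hnorm a).1 ha)
    obtain ⟨g₀, hg₀⟩ : ∃ g₀ : MulAction.stabilizer G ω₀, ∀ v, e (g₀ • v) = a * ψ (e v) := by
      rcases haut ψ with h | h
      · exact h1.imp fun g hg v => by rw [hg, h]
      · exact h2.imp fun g hg v => by rw [hg, h]
    refine ⟨((Additive.toMul (e.symm b) : N) : G) * g₀, Equiv.ext fun ω => ε.injective ?_⟩
    obtain ⟨v, rfl⟩ := hreg.2 ω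
    rw [hσ, hε, MulAction.toPermHom_apply, MulAction.toPerm_apply, act, hg₀, AddEquiv.apply_symm_apply, add_comm]

end Cfsg.Agent.BinaryAffine
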