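import Mathlib

/-!
A finite group `G` acting faithfully on a finite abelian group `V` such that any family of translations
`g • a = a + d` by one vector `d` is realised by a single element.  Elements with maximal fixed point
space are involutions, and their displacement spaces are pairwise disjoint.
-/

set_option autoImplicit false

namespace Cfsg.Agent.BinaryAffine

variable {G V : Type*} [Group G] [AddCommGroup V] [DistribMulAction G V]

/-- For every `d`, one element moves by `d` every point that is moved by `d` by some element. -/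
def Fam (G V : Type*) [Group G] [AddCommGroup V] [DistribMulAction G V] : Prop :=
  ∀ d : V, ∃ k : G, ∀ (g : G) (a : V), g • a = a + d → k • a = a + d

/-- `v ↦ g • v - v`. -/
def mv (g : G) : V →+ V where
  toFun v := g • v - v
  map_zero' := by simp
  map_add' a b := by rw [smul_add]; abel

@[simp] lemma mv_apply (g : G) (v : V) : mv g v = g • v - v := rfl

/-- The fixed points of `g`. -/
def fix (g : G) : AddSubgroup V := (mv g).ker

/-- The displacement space of `g`. -/
def img (g : G) : AddSubgroup V := (mv g).range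

lemma mem_fix {g : G} {v : V} : v ∈ fix g ↔ g • v = v := by
  simp [fix, AddMonoidHom.mem_ker, sub_eq_zero]

lemma mem_img {g : G} {v : V} : v ∈ img g ↔ ∃ a, g • a = a + v := by
  simp only [img, AddMonoidHom.mem_range, mv_apply, sub_eq_iff_eq_add']

variable (V) in
/-- `r` is nontrivial, and only the identity fixes strictly more than `r`. -/
def IsMax (r : G) : Prop := r ≠ 1 ∧ ∀ h : G, fix (V := V) r < fix h → h = 1

/-- The standing hypothesis. -/
structure Setting (G V : Type*) [Group G] [AddCommGroup V] [DistribMulAction G V] : Prop where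
  fam : Fam G V
  faith : FaithfulSMul G V
  finite : Finite V
  finiteG : Finite G
  char : (∀ v : V, v + v = 0) ∨ (∀ v : V, v + v = 0 → v = 0)

lemma fix_one : fix (V := V) (1 : G) = ⊤ := by ext v; simp [mem_fix]

lemma mem_fix_mul {g h : G} {v : V} (hg : v ∈ fix g) (hh : v ∈ fix h) : v ∈ fix (g * h) := by
  rw [mem_fix] at *; rw [mul_smul, hh, hg]

lemma mem_fix_inv {g : G} {v : V} (hg : v ∈ fix g) : v ∈ fix g⁻¹ := by
  rw [mem_fix] at *; rw [inv_smul_eq_iff, hg]

lemma mem_fix_pow {g : G} {v : V} (hg : v ∈ fix g) (n : ℕ) : v ∈ fix (g ^ n) := by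
  induction n with
  | zero => simp [fix_one]
  | succ n ih => rw [pow_succ]; exact mem_fix_mul ih hg

lemma mem_fix_conj {g h : G} {v : V} : h • v ∈ fix (h * g * h⁻¹) ↔ v ∈ fix g := by
  simp [mem_fix, mul_smul]

lemma mem_img_conj {g h : G} {v : V} (hv : v ∈ img g) : h • v ∈ img (h * g * h⁻¹) := by
  obtain ⟨a, ha⟩ := mem_img.1 hv
  exact mem_img.2 ⟨h • a, by simp [mul_smul, ha]⟩

lemma mem_img_comm {g h : G} {v : V} (hc : Commute h g) (hv : v ∈ img g) : h • v ∈ img g := by
  have := mem_img_conj (h := h) hv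
  rwa [hc.eq, mul_inv_cancel_right] at this

lemma mem_fix_comm {g h : G} {v : V} (hc : Commute h g) (hv : v ∈ fix g) : h • v ∈ fix g := by
  have := (mem_fix_conj (h := h)).2 hv
  rwa [hc.eq, mul_inv_cancel_right] at this

lemma fix_conj_lt {g g' h : G} (hlt : fix (V := V) (h * g * h⁻¹) < fix (h * g' * h⁻¹)) :
    fix (V := V) g < fix g' := by
  obtain ⟨hle, hne⟩ := lt_iff_le_and_ne.1 hlt
  refine lt_iff_le_and_ne.2 ⟨fun v hv => mem_fix_conj.1 (hle (mem_fix_conj.2 hv)), fun e => hne ?_⟩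
  ext v
  have h1 := mem_fix_conj (g := g) (h := h) (v := h⁻¹ • v)
  have h2 := mem_fix_conj (g := g') (h := h) (v := h⁻¹ • v)
  rw [smul_inv_smul] at h1 h2
  rw [h1, h2, e]

lemma isMax_conj {g : G} (hg : IsMax V g) (h : G) : IsMax V (h * g * h⁻¹) := by
  refine ⟨by simpa using hg.1, fun x hx => ?_⟩
  have hx' : fix (V := V) g < fix (h⁻¹ * x * h) := fix_conj_lt (h := h) (by simpa [mul_assoc] using hx)
  have := hg.2 _ hx'
  rwa [mul_assoc, inv_mul_eq_one, right_eq_mul] at this

lemma eq_of_isMax_fix_le {r h : G} (hr : IsMax V r) (hh : h ≠ 1) (hle : fix (V := V) r ≤ fix h) :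
    fix (V := V) h = fix r := by
  rcases lt_or_eq_of_le hle with h' | h'
  · exact absurd (hr.2 h h') hh
  · exact h'.symm

lemma isMax_of_fix_le {r h : G} (hr : IsMax V r) (hh : h ≠ 1) (hle : fix (V := V) r ≤ fix h) :
    IsMax V h :=
  ⟨hh, fun x hx => hr.2 x (eq_of_isMax_fix_le hr hh hle ▸ hx)⟩

/-- Orders of the kernel and image. -/
lemma card_fix_mul_img (g : G) : Nat.card (fix (V := V) g) * Nat.card (img (V := V) g) = Nat.card V := by
  rw [img, ← AddSubgroup.index_ker, fix, AddSubgroup.card_mul_index]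

lemma card_le_inf_fix_mul [Finite V] (A : AddSubgroup V) (g : G) :
    Nat.card A ≤ Nat.card ↥(A ⊓ fix g) * Nat.card (img (V := V) g) := by
  have h1 := ((mv g).comp A.subtype).ker.card_mul_index
  rw [AddSubgroup.index_ker] at h1
  rw [← h1]
  refine Nat.mul_le_mul (le_of_eq (Nat.card_congr ?_)) (Nat.card_le_card_of_injective
    (fun x => (⟨x.1, ?_⟩ : img g)) ?_)
  · exact ⟨fun x => ⟨x.1.1, x.1.2, (x.2 : mv g (x.1 : V) = 0)⟩, fun x => ⟨⟨x.1, x.2.1⟩, (x.2.2 : mv g (x : V) = 0)⟩,
      fun x => rfl, fun x => rfl⟩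
  · obtain ⟨a, ha⟩ := x.2
    exact ⟨a, ha⟩
  · exact fun x y hxy => Subtype.ext (congrArg (fun z : img g => (z : V)) hxy)

lemma card_sup_of_inf_eq_bot {A B : AddSubgroup V} (h : A ⊓ B = ⊥) :
    Nat.card ↥(A ⊔ B) = Nat.card A * Nat.card B := by
  rw [← Nat.card_prod]
  refine (Nat.card_eq_of_bijective
    (fun x : A × B => (⟨x.1.1 + x.2.1, AddSubgroup.add_mem_sup x.1.2 x.2.2⟩ : ↥(A ⊔ B))) ⟨?_, ?_⟩).symm
  · rintro ⟨a, b⟩ ⟨a', b'⟩ hab
    have hab : (a : V) + b = a' + b' := congrArg Subtype.val hab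
    have hz : (a : V) - a' ∈ A ⊓ B := ⟨A.sub_mem a.2 a'.2, by
      rw [sub_eq_sub_iff_add_eq_add.2 (hab.trans (add_comm _ _))]
      exact B.sub_mem b'.2 b.2⟩
    rw [h, AddSubgroup.mem_bot, sub_eq_zero] at hz
    rw [hz, add_right_inj] at hab
    exact Prod.ext (Subtype.ext hz) (Subtype.ext hab)
  · rintro ⟨x, hx⟩
    obtain ⟨a, ha, b, hb, rfl⟩ := AddSubgroup.mem_sup.1 hx
    exact ⟨(⟨a, ha⟩, ⟨b, hb⟩), rfl⟩

namespace Setting

variable (S : Setting G V)
include S

lemma eq_one {g : G} (h : ∀ v : V, g • v = v) : g = 1 := by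
  have := S.faith
  exact eq_of_smul_eq_smul fun v : V => by rw [h, one_smul]

lemma ext {g g' : G} (h : ∀ v : V, g • v = g' • v) : g = g' := by
  have := S.faith
  exact eq_of_smul_eq_smul h

lemma eq_one_of_fix_top {g : G} (h : fix (V := V) g = ⊤) : g = 1 :=
  S.eq_one fun v => mem_fix.1 (h ▸ AddSubgroup.mem_top v)

lemma exists_isMax {h : G} (hh : h ≠ 1) : ∃ r : G, IsMax V r ∧ fix (V := V) h ≤ fix r := by
  have := S.finiteG; have := S.finite
  obtain ⟨r, ⟨hr1, hr2⟩, hmax⟩ := Set.exists_max_image {x : G | x ≠ 1 ∧ fix (V := V) h ≤ fix x}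
    (fun x => Nat.card (fix (V := V) x)) (Set.toFinite _) ⟨h, hh, le_rfl⟩
  refine ⟨r, ⟨hr1, fun x hx => by_contra fun hx1 => ?_⟩, hr2⟩
  have h1 := hmax x ⟨hx1, hr2.trans hx.le⟩
  exact hx.ne (AddSubgroup.eq_of_le_of_card_ge hx.le h1)

/-- Every element moving a point by a vector in the displacement space of a maximal `r` agrees with `r`. -/
lemma move_eq {r g : G} {a d : V} (hr : IsMax V r) (hd : d ∈ img r) (hd0 : d ≠ 0)
    (hg : g • a = a + d) : r • a = a + d := by
  obtain ⟨k, hk⟩ := S.fam d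
  obtain ⟨b, hb⟩ := mem_img.1 hd
  have hkb := hk r b hb
  have hk1 : k ≠ 1 := fun e => hd0 (by rwa [e, one_smul, left_eq_add] at hkb)
  have hle : fix (V := V) r ≤ fix k := fun c hc => by
    have h := hk r (b + c) (by rw [smul_add, hb, mem_fix.1 hc]; abel)
    rw [smul_add, hkb] at h
    refine mem_fix.2 (add_left_cancel (a := b + d) ?_)
    rw [h]; abel
  have hab : a - b ∈ fix r := (eq_of_isMax_fix_le hr hk1 hle) ▸ mem_fix.2 (by
    rw [smul_sub, hk g a hg, hkb]; abel)
  have h := mem_fix.1 hab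
  rw [smul_sub, hb, sub_eq_iff_eq_add] at h
  rw [h]; abel

lemma mul_self {r : G} (hr : IsMax V r) : r * r = 1 := by
  refine S.eq_one fun a => ?_
  rw [mul_smul]
  by_cases h : r⁻¹ • a = a
  · have h' : r • a = a := (inv_smul_eq_iff.1 h).symm
    rw [h', h']
  · have hd : r⁻¹ • a - a ∈ img r := mem_img.2 ⟨-(r⁻¹ • a), by rw [smul_neg, smul_inv_smul]; abel⟩
    have h2 := S.move_eq hr hd (sub_ne_zero.2 h) (g := r⁻¹) (a := a) (by abel)
    rw [add_sub_cancel] at h2
    rw [h2, smul_inv_smul]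

lemma inv_eq {r : G} (hr : IsMax V r) : r⁻¹ = r := inv_eq_of_mul_eq_one_left (S.mul_self hr)

lemma smul_smul_self {r : G} (hr : IsMax V r) (a : V) : r • r • a = a := by
  rw [← mul_smul, S.mul_self hr, one_smul]

lemma smul_img {r : G} (hr : IsMax V r) {a : V} (ha : a ∈ img r) : r • a = -a := by
  obtain ⟨b, hb⟩ := mem_img.1 ha
  have h := S.smul_smul_self hr b
  rw [hb, smul_add, hb, add_assoc, add_eq_left] at h
  exact eq_neg_of_add_eq_zero_right h

lemma eq_of_img {r r' : G} (hr : IsMax V r) (hr' : IsMax V r') {d : V} (hd : d ∈ img r)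
    (hd' : d ∈ img r') (hd0 : d ≠ 0) : r = r' := by
  obtain ⟨b, hb⟩ := mem_img.1 hd
  have hb' := S.move_eq hr' hd' hd0 hb
  have hle : fix (V := V) r ≤ fix r' := fun c hc => by
    have h := S.move_eq hr' hd' hd0 (g := r) (a := b + c)
      (by rw [smul_add, hb, mem_fix.1 hc]; abel)
    rw [smul_add, hb'] at h
    refine mem_fix.2 (add_left_cancel (a := b + d) ?_)
    rw [h]; abel
  have hbx : b ∈ fix (r⁻¹ * r') := mem_fix.2 (by rw [mul_smul, hb', ← hb, inv_smul_smul])
  have hbn : b ∉ fix r := fun h => hd0 (by rwa [mem_fix.1 h, left_eq_add] at hb)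
  have hlt : fix (V := V) r < fix (r⁻¹ * r') :=
    lt_of_le_not_ge (fun c hc => mem_fix_mul (mem_fix_inv hc) (hle hc)) fun h => hbn (h hbx)
  exact inv_mul_eq_one.1 (hr.2 _ hlt)

lemma img_ne_bot {r : G} (hr : IsMax V r) : img (V := V) r ≠ ⊥ := fun h => hr.1 <| S.eq_one fun v => by
  have : mv r v ∈ img (V := V) r := ⟨v, rfl⟩
  rwa [h, AddSubgroup.mem_bot, mv_apply, sub_eq_zero] at this

lemma one_lt_card_img {r : G} (hr : IsMax V r) : 1 < Nat.card (img (V := V) r) := by
  have := S.finite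
  exact (AddSubgroup.one_lt_card_iff_ne_bot _).2 (S.img_ne_bot hr)

/-- An element fixing a nonzero displacement of a maximal element commutes with it. -/
lemma commute_of_fix {r h : G} {a : V} (hr : IsMax V r) (ha : a ∈ img r) (ha0 : a ≠ 0)
    (hh : h • a = a) : Commute h r := by
  have := S.eq_of_img (isMax_conj hr h) hr (hh ▸ mem_img_conj (h := h) ha) ha ha0
  exact mul_inv_eq_iff_eq_mul.1 this

lemma eq_or_neg {r h : G} {a : V} (hr : IsMax V r) (hc : Commute h r) (ha : a ∈ img r) :
    h • a = a ∨ h • a = -a := by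
  by_cases h' : h • a = a
  · exact Or.inl h'
  · refine Or.inr ?_
    have hd : h • a - a ∈ img r := (img r).sub_mem (mem_img_comm hc ha) ha
    have h2 := S.move_eq hr hd (sub_ne_zero.2 h') (g := h) (a := a) (by abel)
    rw [S.smul_img hr ha, add_sub_cancel] at h2
    exact h2.symm

lemma fix_img {r h : G} {a b : V} (hr : IsMax V r) (hc : Commute h r) (ha : a ∈ img r) (ha0 : a ≠ 0)
    (hh : h • a = a) (hb : b ∈ img r) : h • b = b := by
  rcases S.eq_or_neg hr hc hb with h1 | h1
  · exact h1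
  rcases S.char with h2 | h2
  · rw [h1]; exact neg_eq_of_add_eq_zero_right (h2 b)
  rcases S.eq_or_neg hr hc ((img r).add_mem ha hb) with h3 | h3 <;> rw [smul_add, hh, h1] at h3
  · rw [add_right_inj] at h3
    rw [h1, h3]
  · refine absurd (h2 a ?_) ha0
    rw [neg_add, add_left_inj] at h3
    nth_rewrite 2 [h3]
    exact add_neg_cancel a

lemma img_le_fix {r t : G} (hr : IsMax V r) (ht : IsMax V t) (hc : Commute r t) (hne : r ≠ t) :
    img (V := V) t ≤ fix r := by
  intro a ha
  rw [mem_fix]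
  rcases S.eq_or_neg ht hc ha with h | h
  · exact h
  by_contra h'
  refine hne (S.eq_of_img hr ht (d := r • a - a) (mem_img.2 ⟨a, by abel⟩) ?_ (sub_ne_zero.2 h'))
  exact (img t).sub_mem (mem_img_comm hc ha) ha

/-- For a noncommuting pair the displacements of one meet the fixed space of the other trivially. -/
lemma eq_zero_of_not_commute {r t : G} {a : V} (hr : IsMax V r) (hnc : ¬ Commute r t) (ha : a ∈ img r)
    (hf : t • a = a) : a = 0 :=
  by_contra fun ha0 => hnc (S.commute_of_fix hr ha ha0 hf).symm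

/-- No element acts as a translation on a two dimensional space. -/
lemma add_self_eq_zero {g : G} {a y : V} (hg : g • a = a + y) (hy : g • y = y) : y + y = 0 := by
  obtain ⟨k, hk⟩ := S.fam (y + y)
  have h1 : g • (a + a) = a + a + (y + y) := by rw [smul_add, hg]; abel
  have h2 : (g * g) • a = a + (y + y) := by rw [mul_smul, hg, smul_add, hg, hy]; abel
  have k1 := hk g _ h1
  have k2 := hk (g * g) _ h2
  rw [smul_add, k2] at k1
  have h3 : (a + a + (y + y)) + (y + y) = a + a + (y + y) := (by abel : _ = a + (y + y) + (a + (y + y))).trans k1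
  rwa [add_eq_left] at h3

end Setting

end Cfsg.Agent.BinaryAffine
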