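import Cfsg.Agent.Lib.BinaryAffine.Irreducible

/-!
When the plane is everything, `V` is a field of order `q ^ 2` and `G` consists of the maps
`v ↦ a * v` and `v ↦ a * v ^ q` with `a ^ (q + 1) = 1`.
-/

set_option autoImplicit false

namespace Cfsg.Agent.BinaryAffine

variable {G V : Type*} [Group G] [AddCommGroup V] [DistribMulAction G V]

lemma exists_card_eq_pow {A : Type*} [AddCommGroup A] [Finite A] (p : ℕ) [Fact p.Prime]
    (h : ∀ a : A, p • a = 0) : ∃ n : ℕ, Nat.card A = p ^ n := by
  let _ : Module (ZMod p) A := AddCommGroup.zmodModule h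
  exact ⟨Module.finrank (ZMod p) A, by rw [Module.natCard_eq_pow_finrank (K := ZMod p), Nat.card_zmod]⟩

lemma eq_zero_of_dvd_pow_sub_one {p m j : ℕ} (hp : 2 ≤ p) (hj : j < 2 * m)
    (h : p ^ m + 1 ∣ p ^ j - 1) : j = 0 := by
  by_contra hj0
  have h1 : 1 < p ^ j := Nat.one_lt_pow hj0 (by omega)
  rcases le_or_gt j m with hjm | hjm
  · have h2 : p ^ j ≤ p ^ m := Nat.pow_le_pow_right (by omega) hjm
    have := Nat.le_of_dvd (by omega) h
    omega
  · obtain ⟨i, rfl⟩ : ∃ i, j = m + i := ⟨j - m, by omega⟩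
    have h2 : p ^ i < p ^ m := Nat.pow_lt_pow_right (by omega) (by omega)
    have h3 : p ^ m + 1 ∣ p ^ i + 1 := by
      have e : (p ^ m + 1) * p ^ i = (p ^ (m + i) - 1) + (p ^ i + 1) := by
        rw [add_mul, one_mul, ← pow_add]; omega
      exact (Nat.dvd_add_right h).1 (e ▸ dvd_mul_right _ _)
    have := Nat.le_of_dvd (by omega) h3
    omega

namespace Pair

variable (P : Pair G V)

theorem exists_field (p : ℕ) [hp : Fact p.Prime] (hpV : ∀ v : V, p • v = 0) (hU : P.U = ⊤) :
    ∃ (m : ℕ) (e : V ≃+ GaloisField p (2 * m)), m ≠ 0 ∧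
      (∀ g : G, ∃ a : GaloisField p (2 * m), a ^ (p ^ m + 1) = 1 ∧
        ((∀ v, e (g • v) = a * e v) ∨ (∀ v, e (g • v) = a * e v ^ p ^ m))) ∧
      ∀ a : GaloisField p (2 * m), a ^ (p ^ m + 1) = 1 →
        (∃ g : G, ∀ v, e (g • v) = a * e v) ∧ ∃ g : G, ∀ v, e (g • v) = a * e v ^ p ^ m := by
  classical
  have S := P.S
  have := S.finite
  have := S.finiteG
  have hFx : ∀ g : G, P.F ≤ fix g := fun g f hf => by
    have h : f ∈ P.U ⊓ P.F := ⟨hU ▸ AddSubgroup.mem_top f, hf⟩
    rw [P.U_inf_F, AddSubgroup.mem_bot] at h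
    rw [h]
    exact zero_mem _
  have inU : ∀ v : V, v ∈ P.U := fun v => hU ▸ AddSubgroup.mem_top v
  obtain ⟨m, hm⟩ := exists_card_eq_pow p (A := img (V := V) P.r) fun a => Subtype.ext (hpV a)
  have hm0 : m ≠ 0 := fun h => by
    have := S.one_lt_card_img P.hr
    rw [hm, h, pow_zero] at this
    omega
  set q := p ^ m with hq
  have hVcard : Nat.card V = p ^ (2 * m) := by
    rw [← AddSubgroup.card_top, ← hU, P.card_U, hm, ← pow_add, two_mul]
  have hRcard : Nat.card P.rotGroup = q + 1 := P.card_rotGroup.trans (by rw [hm])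
  -- invariant subgroups of the rotations
  have hinv : ∀ M : AddSubgroup V, (∀ x : P.rotGroup, ∀ v ∈ M, (x : G) • v ∈ M) → M = ⊥ ∨ M = ⊤ := by
    intro M hM
    obtain ⟨j, hj⟩ := exists_card_eq_pow p (A := M) fun a => Subtype.ext (hpV a)
    by_cases hjm : 2 * m ≤ j
    · refine Or.inr (AddSubgroup.eq_top_of_le_card _ ?_)
      rw [hj, hVcard]
      exact Nat.pow_le_pow_right hp.out.pos hjm
    refine Or.inl ?_
    let X := {v : M // v ≠ 0}
    let act : MulAction P.rotGroup X :=
      { smul := fun x v => ⟨⟨(x : G) • ((v.1 : M) : V), hM x _ v.1.2⟩, fun e => v.2 (Subtype.ext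
          ((smul_eq_zero_iff_eq (x : G)).1 (congrArg (fun z : M => (z : V)) e)))⟩
        one_smul := fun v => Subtype.ext (Subtype.ext (one_smul G _))
        mul_smul := fun x y v => Subtype.ext (Subtype.ext (mul_smul (x : G) (y : G) _)) }
    have hstab : ∀ v : X, MulAction.stabilizer P.rotGroup v = ⊥ := fun v => by
      refine (Subgroup.eq_bot_iff_forall _).2 fun x hx => Subtype.ext <| by_contra fun hx1 => ?_
      exact P.smul_rot_ne x.2 (inU _) (fun e => v.2 (Subtype.ext e)) hx1
        (congrArg (fun z : X => ((z.1 : M) : V)) (MulAction.mem_stabilizer_iff.1 hx))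
    have hdvd : q + 1 ∣ Nat.card X := by
      have := Fintype.ofFinite (Quotient (MulAction.orbitRel P.rotGroup X))
      rw [Nat.card_congr (MulAction.selfEquivSigmaOrbitsQuotientStabilizer P.rotGroup X), Nat.card_sigma]
      refine Finset.dvd_sum fun ω _ => ?_
      rw [hstab, ← Subgroup.index_eq_card, Subgroup.index_bot, hRcard]
    have hX : Nat.card X = p ^ j - 1 := by
      have h : {v : M | v ≠ 0} = ({0} : Set M)ᶜ := rfl
      rw [show Nat.card X = Nat.card ({v : M | v ≠ 0} : Set M) from rfl, h, Nat.card_coe_set_eq,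
        Set.ncard_compl, Set.ncard_singleton, hj]
    rw [hX] at hdvd
    rw [eq_zero_of_dvd_pow_sub_one hp.out.two_le (by omega) hdvd, pow_zero] at hj
    exact AddSubgroup.eq_bot_of_card_eq M hj
  -- the field generated by the rotations
  let ι : G →* AddMonoid.End V := DistribMulAction.toAddMonoidEnd G V
  let K : Subring (AddMonoid.End V) := Subring.closure (Set.range fun x : P.rotGroup => ι x)
  have hcommS : ∀ a ∈ Set.range (fun x : P.rotGroup => ι x),
      ∀ b ∈ Set.range (fun x : P.rotGroup => ι x), a * b = b * a := by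
    rintro _ ⟨x, rfl⟩ _ ⟨y, rfl⟩
    show ι x * ι y = ι y * ι x
    rw [← map_mul, ← map_mul, (P.rot_commute x.2 y.2).eq]
  let gen : P.rotGroup →* K :=
    { toFun := fun x => ⟨ι x, Subring.subset_closure ⟨x, rfl⟩⟩
      map_one' := Subtype.ext (map_one ι)
      map_mul' := fun x y => Subtype.ext (map_mul ι (x : G) (y : G)) }
  have : IsMulCommutative K := Subring.isMulCommutative_closure hcommS
  have hKc : ∀ a b : K, a * b = b * a := fun a b => mul_comm' a b
  let _ : CommRing K := { (inferInstance : Ring K) with mul_comm := hKc }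
  have : Finite (AddMonoid.End V) := Finite.of_injective (fun f => (f : V → V)) DFunLike.coe_injective
  obtain ⟨a₀, ha₀L, ha₀⟩ := P.exists_mem_L P.mem_r
  have hra₀ : P.r • a₀ = a₀ := (P.mem_L.1 ha₀L).1
  have : Nontrivial V := ⟨⟨a₀, 0, ha₀⟩⟩
  have hker : ∀ x : K, x ≠ 0 → ∀ v : V, (x : AddMonoid.End V) v = 0 → v = 0 := by
    intro x hx v hv
    rcases hinv (AddMonoidHom.ker (x : AddMonoid.End V)) fun y w hw => by
      have h := congrArg (fun z : K => (z : AddMonoid.End V) w) (hKc x (gen y))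
      exact (h.trans ((congrArg (ι y) hw).trans (smul_zero _)) : (x : AddMonoid.End V) ((y : G) • w) = 0) with e | e
    · exact AddSubgroup.mem_bot.1 (e.le hv)
    · exact absurd (Subtype.ext (AddMonoidHom.ext fun w => AddMonoidHom.mem_ker.1 (e.ge (AddSubgroup.mem_top w))) : x = 0) hx
  have : Nontrivial K := ⟨⟨1, 0, fun e => ha₀ (congrArg (fun z : K => (z : AddMonoid.End V) a₀) e)⟩⟩
  have : NoZeroDivisors K := ⟨fun {a b} hab => by
    by_contra h
    push Not at h
    exact ha₀ (hker b h.2 a₀ (hker a h.1 _ (congrArg (fun z : K => (z : AddMonoid.End V) a₀) hab)))⟩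
  have : IsDomain K := NoZeroDivisors.to_isDomain K
  let _ := Fintype.ofFinite K
  let _ : Field K := Fintype.fieldOfDomain K
  let ev : K →+ V :=
    { toFun := fun x => (x : AddMonoid.End V) a₀
      map_zero' := rfl
      map_add' := fun _ _ => rfl }
  have hev : Function.Bijective ev := by
    refine ⟨(injective_iff_map_eq_zero ev).2 fun x hx => by_contra fun h => ha₀ (hker x h a₀ hx), ?_⟩
    rcases hinv ev.range fun y w hw => by
      obtain ⟨x, rfl⟩ := hw
      exact ⟨gen y * x, rfl⟩ with e | e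
    · exact absurd (AddSubgroup.mem_bot.1 (e.le ⟨1, rfl⟩ : a₀ ∈ (⊥ : AddSubgroup V))) ha₀
    · exact AddMonoidHom.range_eq_top.1 e
  have hp0 : (p : K) = 0 := hev.1 (by
    rw [map_zero, ← nsmul_one, map_nsmul]
    exact hpV _)
  have : CharP K p := (CharP.charP_iff_prime_eq_zero hp.out).2 hp0
  have hKcard : Nat.card K = p ^ (2 * m) := (Nat.card_eq_of_bijective ev hev).trans hVcard
  have hgen1 : ∀ x : P.rotGroup, gen x ^ (q + 1) = 1 := fun x => by
    rw [← map_pow, ← hRcard, pow_card_eq_one', map_one]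
  have hgenq : ∀ x : P.rotGroup, gen x ^ q = gen x⁻¹ := fun x => by
    have h := hgen1 x
    rw [pow_succ] at h
    calc gen x ^ q = gen x ^ q * (gen x * gen x⁻¹) := by rw [← map_mul, mul_inv_cancel, map_one, mul_one]
      _ = _ := by rw [← mul_assoc, h, one_mul]
  have hrgen : ∀ x : K, ∀ v : V,
      P.r • ((x : AddMonoid.End V) v) = ((x ^ q : K) : AddMonoid.End V) (P.r • v) := by
    let T : Subring K :=
      { carrier := {x | ∀ v : V, P.r • ((x : AddMonoid.End V) v) = ((x ^ q : K) : AddMonoid.End V) (P.r • v)}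
        one_mem' := fun v => by rw [one_pow]; rfl
        zero_mem' := fun v => by rw [zero_pow (pow_ne_zero _ hp.out.ne_zero)]; exact smul_zero _
        mul_mem' := fun {x y} hx hy v => by
          rw [mul_pow]
          exact (hx _).trans (congrArg _ (hy v))
        add_mem' := fun {x y} hx hy v => by
          rw [hq, add_pow_char_pow, ← hq]
          exact (smul_add _ _ _).trans (congrArg₂ _ (hx v) (hy v))
        neg_mem' := fun {x} hx v => by
          rw [← iterateFrobenius_def, map_neg, iterateFrobenius_def]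
          exact (smul_neg _ _).trans (congrArg _ (hx v)) }
    intro x
    obtain ⟨x, hx⟩ := x
    revert hx
    suffices h : ∀ x, x ∈ K → ∃ hx : x ∈ K, (⟨x, hx⟩ : K) ∈ T by exact fun hx => (h x hx).2
    intro x hx
    induction hx using Subring.closure_induction with
    | mem y hy =>
      obtain ⟨y, rfl⟩ := hy
      refine ⟨Subring.subset_closure ⟨y, rfl⟩, fun v => ?_⟩
      show P.r • ((y : G) • v) = ((gen y ^ q : K) : AddMonoid.End V) (P.r • v)
      rw [hgenq]
      show _ = ((y⁻¹ : P.rotGroup) : G) • P.r • v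
      rw [Subgroup.coe_inv, ← P.conj_rot y.2 P.mem_r, ← mul_smul, ← mul_smul, mul_assoc (P.r * (y : G)),
        S.mul_self P.hr, mul_one]
    | zero => exact ⟨zero_mem _, T.zero_mem⟩
    | one => exact ⟨one_mem _, T.one_mem⟩
    | add x y _ _ hx hy => obtain ⟨hx, h1⟩ := hx; obtain ⟨hy, h2⟩ := hy; exact ⟨add_mem hx hy, T.add_mem h1 h2⟩
    | neg x _ hx => obtain ⟨hx, h1⟩ := hx; exact ⟨neg_mem hx, T.neg_mem h1⟩
    | mul x y _ _ hx hy => obtain ⟨hx, h1⟩ := hx; obtain ⟨hy, h2⟩ := hy; exact ⟨mul_mem hx hy, T.mul_mem h1 h2⟩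
  let ψ : K ≃+* GaloisField p (2 * m) := by
    have := Fintype.ofFinite (GaloisField p (2 * m))
    exact FiniteField.ringEquivOfCardEq (by
      rw [← Nat.card_eq_fintype_card, ← Nat.card_eq_fintype_card, hKcard, GaloisField.card p _ (by omega)])
  let evE := AddEquiv.ofBijective ev hev
  let e : V ≃+ GaloisField p (2 * m) := evE.symm.trans ψ.toAddEquiv
  have he : ∀ x : K, e (ev x) = ψ x := fun x => congrArg ψ (evE.symm_apply_apply x)
  have hrot : ∀ (x : P.rotGroup) (v : V), e ((x : G) • v) = ψ (gen x) * e v := by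
    intro x v
    obtain ⟨y, rfl⟩ := hev.2 v
    rw [show (x : G) • ev y = ev (gen x * y) from rfl, he, he, map_mul]
  have hrefl : ∀ (x : P.rotGroup) (v : V), e (((x : G) * P.r) • v) = ψ (gen x) * e v ^ q := by
    intro x v
    obtain ⟨y, rfl⟩ := hev.2 v
    rw [mul_smul, show P.r • ev y = ev (y ^ q) from (hrgen y a₀).trans (by rw [hra₀]; rfl),
      show (x : G) • ev (y ^ q) = ev (gen x * y ^ q) from rfl, he, he, map_mul, map_pow]
  refine ⟨m, e, hm0, fun g => ?_, fun a ha => ?_⟩
  · rcases P.rot_or_mem (hFx g) with h | h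
    · exact ⟨ψ (gen ⟨g, h⟩), by rw [← map_pow, hgen1, map_one], Or.inl (hrot ⟨g, h⟩)⟩
    · refine ⟨ψ (gen ⟨g * P.r, P.not_mem_mul h P.mem_r⟩), by rw [← map_pow, hgen1, map_one], Or.inr fun v => ?_⟩
      have h2 : e ((g * P.r * P.r) • v) = _ := hrefl ⟨g * P.r, P.not_mem_mul h P.mem_r⟩ v
      rwa [mul_assoc, S.mul_self P.hr, mul_one] at h2
  · have hinj : Function.Injective gen := fun x y hxy => Subtype.ext (S.ext fun v =>
      congrArg (fun z : K => (z : AddMonoid.End V) v) hxy)
    let _ : Fintype P.rotGroup := Fintype.ofFinite _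
    let A : Finset K := (Polynomial.nthRootsFinset (q + 1) (1 : K))
    have hsub : Finset.image gen (Finset.univ : Finset P.rotGroup) ⊆ A := by
      intro z hz
      obtain ⟨x, -, rfl⟩ := Finset.mem_image.1 hz
      exact (Polynomial.mem_nthRootsFinset (by omega) _).2 (hgen1 x)
    have hcardA : A.card ≤ q + 1 := by
      refine le_trans ?_ (Polynomial.card_nthRoots (q + 1) (1 : K))
      simp only [A, Polynomial.nthRootsFinset_def]
      exact Multiset.toFinset_card_le _
    have heq := Finset.eq_of_subset_of_card_le hsub (by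
      rw [Finset.card_image_of_injective _ hinj, Finset.card_univ, ← Nat.card_eq_fintype_card, hRcard]
      exact hcardA)
    have hmem : ψ.symm a ∈ A := (Polynomial.mem_nthRootsFinset (by omega) _).2 (by rw [← map_pow, ha, map_one])
    rw [← heq] at hmem
    obtain ⟨x, -, hx⟩ := Finset.mem_image.1 hmem
    have hxa : ψ (gen x) = a := by rw [hx, RingEquiv.apply_symm_apply]
    exact ⟨⟨x, fun v => by rw [hrot, hxa]⟩, ⟨(x : G) * P.r, fun v => by rw [hrefl, hxa]⟩⟩

end Pair

end Cfsg.Agent.BinaryAffine
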