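import Cfsg.Agent.Lib.BinaryAffine.Space

/-!
In an irreducible action the plane of a noncommuting pair is everything; without such a pair the
group has order at most two and the space has prime order.
-/

set_option autoImplicit false

namespace Cfsg.Agent.BinaryAffine

variable {G V : Type*} [Group G] [AddCommGroup V] [DistribMulAction G V]

/-- No proper nonzero invariant subgroup. -/
def Irr (G V : Type*) [Group G] [AddCommGroup V] [DistribMulAction G V] : Prop :=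
  ∀ W : AddSubgroup V, (∀ g : G, ∀ w ∈ W, g • w ∈ W) → W = ⊥ ∨ W = ⊤

namespace Pair

variable (P : Pair G V)

lemma img_le_U_of_not_commute (p : ℕ) [Fact p.Prime] (hpV : ∀ v : V, p • v = 0) {r : G}
    (hr : IsMax V r) (hnc : ¬ Commute P.r r) : img (V := V) r ≤ P.U := by
  rcases P.S.char with h2 | h2
  swap
  · exact P.img_le_U_odd p hpV h2 hr hnc
  by_contra hU
  have S := P.S
  have := S.finite
  let T : Pair G V := ⟨S, P.r, r, P.hr, hr, hnc⟩
  have hne : P.U ⊓ fix r ≠ ⊥ := fun e => by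
    have h := card_le_inf_fix_mul P.U r
    rw [e, AddSubgroup.card_bot, P.card_U, one_mul, show Nat.card (img (V := V) r) = _ from T.card_img_t] at h
    have h1 := S.one_lt_card_img P.hr
    change Nat.card (img (V := V) P.r) * Nat.card (img (V := V) P.r) ≤ Nat.card (img (V := V) P.r) at h
    nlinarith
  obtain ⟨⟨u, hu, hur⟩, hu0⟩ := AddSubgroup.ne_bot_iff_exists_ne_zero.1 hne
  have hu0 : u ≠ 0 := fun e => hu0 (Subtype.ext e)
  obtain ⟨k, hk, huk, -⟩ := P.exists_root hu hu0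
  have hc : Commute r k := S.commute_of_fix hk.1 huk hu0 (mem_fix.1 hur)
  have hkr : k ≠ r := fun e => hU (e ▸ P.img_le_U hk)
  have hkx : ¬ Commute k P.r := fun h => by
    have hne : k ≠ P.r := fun e => hnc (e ▸ hc.symm)
    refine hk.1.1 (P.not_fix_U hk.2 fun v hv => mem_fix.1 ((P.img_sup_eq_U hk P.mem_r hne).ge.trans
      (sup_le (S.smul_img_two h2 hk.1) (S.img_le_fix hk.1 P.hr h hne)) hv))
  exact not_triangle h2 ⟨S, k, P.r, hk.1, P.hr, hkx⟩ ⟨S, r, P.r, hr, P.hr, fun h => hnc h.symm⟩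
    rfl hkr hc.symm

theorem img_le_U_or_F (p : ℕ) [Fact p.Prime] (hpV : ∀ v : V, p • v = 0) {r : G} (hr : IsMax V r) :
    img (V := V) r ≤ P.U ∨ img (V := V) r ≤ P.F := by
  by_cases h1 : Commute P.r r
  · by_cases h2 : Commute P.t r
    · by_cases hrr : r = P.r
      · exact Or.inl (hrr ▸ le_sup_left)
      · by_cases hrt : r = P.t
        · exact Or.inl (hrt ▸ le_sup_right)
        · exact Or.inr (le_inf (P.S.img_le_fix P.hr hr h1 (Ne.symm hrr))
            (P.S.img_le_fix P.ht hr h2 (Ne.symm hrt)))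
    · exact Or.inl (P.U_swap ▸ P.swap.img_le_U_of_not_commute p hpV hr h2)
  · exact Or.inl (P.img_le_U_of_not_commute p hpV hr h1)

lemma U_le_fix {r : G} (hr : IsMax V r) (h : img (V := V) r ≤ P.F) : P.U ≤ fix r := by
  obtain ⟨⟨d, hd⟩, hd0⟩ := AddSubgroup.ne_bot_iff_exists_ne_zero.1 (P.S.img_ne_bot hr)
  have hd0 : d ≠ 0 := fun e => hd0 (Subtype.ext e)
  have key : ∀ k : G, IsMax V k → P.Mem k → img (V := V) k ≤ fix r := fun k hk hkm => by
    have hne : r ≠ k := fun e => hd0 <| by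
      have : d ∈ P.U ⊓ P.F := ⟨P.img_le_U hkm (e ▸ hd), h hd⟩
      rwa [P.U_inf_F, AddSubgroup.mem_bot] at this
    exact P.S.img_le_fix hr hk (P.S.commute_of_fix hr hd hd0 (P.smul_F hkm.2 (h hd))).symm hne
  exact sup_le (key _ P.hr P.mem_r) (key _ P.ht P.mem_t)

/-- The image of the pair under `h`. -/
def conjPair (h : G) : Pair G V where
  S := P.S
  r := h * P.r * h⁻¹
  t := h * P.t * h⁻¹
  hr := isMax_conj P.hr h
  ht := isMax_conj P.ht h
  hnc hc := P.hnc <| by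
    have := congrArg (fun x => h⁻¹ * x * h) hc.eq
    simpa [mul_assoc] using! this

lemma smul_mem_conjPair (h : G) {v : V} (hv : v ∈ P.U) : h • v ∈ (P.conjPair h).U := by
  obtain ⟨w, hw, w', hw', rfl⟩ := AddSubgroup.mem_sup.1 hv
  rw [smul_add]
  exact AddSubgroup.add_mem_sup (mem_img_conj hw) (mem_img_conj hw')

theorem U_eq_top (p : ℕ) [Fact p.Prime] (hpV : ∀ v : V, p • v = 0) (hirr : Irr G V) : P.U = ⊤ := by
  have S := P.S
  by_contra htop
  obtain ⟨⟨a, ha⟩, ha0⟩ := AddSubgroup.ne_bot_iff_exists_ne_zero.1 (S.img_ne_bot P.hr)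
  have ha0 : a ≠ 0 := fun e => ha0 (Subtype.ext e)
  obtain ⟨h, hh⟩ : ∃ h : G, ¬ (P.conjPair h).U ≤ P.U := by
    by_contra hall
    push Not at hall
    rcases hirr P.U fun g w hw => hall g (P.smul_mem_conjPair g hw) with e | e
    · exact ha0 (AddSubgroup.mem_bot.1 (e.le (AddSubgroup.mem_sup_left ha : a ∈ P.U)))
    · exact htop e
  set P₂ := P.conjPair h with hP₂
  have hU₂ : P₂.U ≤ P.F := by
    rcases P.img_le_U_or_F p hpV P₂.hr with h1 | h1 <;> rcases P.img_le_U_or_F p hpV P₂.ht with h3 | h3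
    · exact absurd (sup_le h1 h3) hh
    · obtain ⟨⟨c, hc⟩, hc0⟩ := AddSubgroup.ne_bot_iff_exists_ne_zero.1 (S.img_ne_bot P₂.ht)
      exact absurd (S.commute_of_fix P₂.ht hc (fun e => hc0 (Subtype.ext e))
        (P.smul_F (P.mem_of_img_le P₂.hr h1).2 (h3 hc))) P₂.hnc
    · obtain ⟨⟨c, hc⟩, hc0⟩ := AddSubgroup.ne_bot_iff_exists_ne_zero.1 (S.img_ne_bot P₂.hr)
      exact absurd (S.commute_of_fix P₂.hr hc (fun e => hc0 (Subtype.ext e))
        (P.smul_F (P.mem_of_img_le P₂.ht h3).2 (h1 hc))).symm P₂.hnc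
    · exact sup_le h1 h3
  have hUf₂ : P.U ≤ P₂.F := le_inf (P.U_le_fix P₂.hr (le_sup_left.trans hU₂))
    (P.U_le_fix P₂.ht (le_sup_right.trans hU₂))
  set b := h • a with hb
  have hbr : b ∈ img P₂.r := mem_img_conj ha
  have hb0 : b ≠ 0 := fun e => ha0 (by rwa [hb, smul_eq_zero_iff_eq] at e)
  have haU : a ∈ P.U := AddSubgroup.mem_sup_left ha
  have hbU : b ∈ P₂.U := AddSubgroup.mem_sup_left hbr
  obtain ⟨a₁, ha₁, hga₁⟩ := P.exists_g_solution (P.U.neg_mem haU)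
  obtain ⟨a₂, ha₂, hga₂⟩ := P₂.exists_g_solution hbU
  obtain ⟨k, hk⟩ := S.fam (b - a)
  -- the alternative solutions
  set a₁' := -(P.g • a₁) with ha₁'
  set a₂' := -(P₂.g • a₂) with ha₂'
  have hga₁' : P.g⁻¹ • a₁' = a₁' + -a := by
    rw [ha₁', smul_neg, inv_smul_smul, hga₁]; abel
  have hga₂' : P₂.g⁻¹ • a₂' = a₂' + b := by
    rw [ha₂', smul_neg, inv_smul_smul, hga₂]; abel
  have hF' : ∀ x₁ x₂ : G, P.F ≤ fix x₁ → P₂.F ≤ fix x₂ → ∀ c₁ ∈ P.U, ∀ c₂ ∈ P₂.U,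
      x₁ • c₁ = c₁ + -a → x₂ • c₂ = c₂ + b → ∀ f ∈ P.F ⊓ P₂.F,
      k • (c₁ + c₂ + f) = c₁ + c₂ + f + (b - a) := by
    intro x₁ x₂ hx₁ hx₂ c₁ hc₁ c₂ hc₂ e₁ e₂ f hf
    refine hk (x₁ * x₂) _ ?_
    rw [mul_smul, smul_add, smul_add, smul_add, smul_add, P₂.smul_F hx₂ (hUf₂ hc₁), e₂, smul_add,
      e₁, P.smul_F hx₁ (hU₂ hc₂), P.smul_F hx₁ (hU₂ hbU), P₂.smul_F hx₂ hf.2, P.smul_F hx₁ hf.1]
    abel
  have hgi : ∀ (Q : Pair G V), Q.F ≤ fix Q.g⁻¹ := fun Q f hf => mem_fix_inv (Q.F_le_fix_g hf)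
  have k1 := hF' _ _ P.F_le_fix_g P₂.F_le_fix_g a₁ ha₁ a₂ ha₂ hga₁ hga₂ 0 (zero_mem _)
  have k2 := hF' _ _ (hgi P) P₂.F_le_fix_g a₁' (P.U.neg_mem (P.smul_mem_U_g ha₁)) a₂ ha₂ hga₁' hga₂ 0 (zero_mem _)
  have k3 := hF' _ _ P.F_le_fix_g (hgi P₂) a₁ ha₁ a₂' (P₂.U.neg_mem (P₂.smul_mem_U_g ha₂)) hga₁ hga₂' 0 (zero_mem _)
  have hka : k • a = a + (b - a) := hk h a (by rw [hb]; abel)
  rw [add_zero] at k1 k2 k3
  have hu₁ : a₁' - a₁ ∈ fix k := mem_fix.2 (by
    rw [show a₁' - a₁ = a₁' + a₂ - (a₁ + a₂) by abel, smul_sub, k1, k2]; abel)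
  have hu₂ : a₂' - a₂ ∈ fix k := mem_fix.2 (by
    rw [show a₂' - a₂ = a₁ + a₂' - (a₁ + a₂) by abel, smul_sub, k1, k3]; abel)
  have hz : a - (a₁ + a₂) ∈ fix k := mem_fix.2 (by rw [smul_sub, hka, k1]; abel)
  have hf : ∀ f ∈ P.F ⊓ P₂.F, f ∈ fix k := fun f hf => mem_fix.2 (by
    have h1 := hF' _ _ P.F_le_fix_g P₂.F_le_fix_g a₁ ha₁ a₂ ha₂ hga₁ hga₂ f hf
    rw [smul_add, k1] at h1
    exact add_left_cancel (a := a₁ + a₂ + (b - a)) (h1.trans (by abel)))
  have hk1 : k ≠ 1 := fun e => by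
    rw [e, one_smul, left_eq_add, sub_eq_zero] at hka
    have : a ∈ P.U ⊓ P.F := ⟨haU, hU₂ (hka ▸ hbU)⟩
    rw [P.U_inf_F, AddSubgroup.mem_bot] at this
    exact ha0 this
  obtain ⟨r, hr, hle⟩ := S.exists_isMax (V := V) hk1
  have hu₁r := mem_fix.1 (hle hu₁)
  have hu₂r := mem_fix.1 (hle hu₂)
  have hzr := mem_fix.1 (hle hz)
  have u₁U : a₁' - a₁ ∈ P.U := P.U.sub_mem (P.U.neg_mem (P.smul_mem_U_g ha₁)) ha₁
  have u₂U : a₂' - a₂ ∈ P₂.U := P₂.U.sub_mem (P₂.U.neg_mem (P₂.smul_mem_U_g ha₂)) ha₂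
  rcases P.img_le_U_or_F p hpV hr with h1 | h1
  · have hm := P.mem_of_img_le hr h1
    have e₁ := S.move_eq P.hr ((img P.r).neg_mem ha) (neg_ne_zero.2 ha0) hga₁
    have e₁' := S.move_eq P.hr ((img P.r).neg_mem ha) (neg_ne_zero.2 ha0) hga₁'
    have hu0 : a₁' - a₁ ≠ 0 := fun e => by
      rw [sub_eq_zero, ha₁', neg_eq_iff_eq_neg] at e
      have ha1 : a₁ = 0 := P.eq_zero_of_smul_g_neg ha₁ e
      rw [ha1, smul_zero, zero_add, eq_comm, neg_eq_zero] at hga₁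
      exact ha0 hga₁
    have hrP := P.share hm P.mem_r u₁U hu0 hu₁r (by rw [smul_sub, e₁, e₁']; abel)
    rw [show a - (a₁ + a₂) = a - a₁ - a₂ by abel, smul_sub r (a - a₁) a₂, P.smul_F hm.2 (hU₂ ha₂),
      sub_left_inj, hrP, smul_sub, S.smul_img P.hr ha, e₁] at hzr
    refine ha0 ?_
    calc a = a - a₁ - (-a - (a₁ + -a)) := by abel
      _ = 0 := by rw [hzr]; abel
  · have hUr := P.U_le_fix hr h1
    rcases P₂.img_le_U_or_F p hpV hr with h3 | h3
    · have hm := P₂.mem_of_img_le hr h3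
      have e₂ := S.move_eq P₂.hr hbr hb0 hga₂
      have e₂' := S.move_eq P₂.hr hbr hb0 hga₂'
      have hu0 : a₂' - a₂ ≠ 0 := fun e => by
        rw [sub_eq_zero, ha₂', neg_eq_iff_eq_neg] at e
        have ha2 : a₂ = 0 := P₂.eq_zero_of_smul_g_neg ha₂ e
        rw [ha2, smul_zero, zero_add, eq_comm] at hga₂
        exact hb0 hga₂
      have hrP := P₂.share hm P₂.mem_r u₂U hu0 hu₂r (by rw [smul_sub, e₂, e₂']; abel)
      have hax : r • (a - a₁) = a - a₁ := mem_fix.1 (hUr (P.U.sub_mem haU ha₁))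
      rw [show a - (a₁ + a₂) = a - a₁ - a₂ by abel, smul_sub r (a - a₁) a₂, hax, sub_right_inj, hrP,
        e₂, add_eq_left] at hzr
      exact hb0 hzr
    · refine hr.1 (S.eq_one_of_fix_top (eq_top_iff.2 fun v _ => ?_))
      obtain ⟨u, hu, f, hf', rfl⟩ := P.exists_decomp v
      obtain ⟨u', hu', f', hf'', rfl⟩ := P₂.exists_decomp f
      have hf1 : f' ∈ P.F := by simpa using P.F.sub_mem hf' (hU₂ hu')
      exact (fix r).add_mem (hUr hu) ((fix r).add_mem (P₂.U_le_fix hr h3 hu') (hle (hf f' ⟨hf1, hf''⟩)))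

end Pair

/-- Without a noncommuting pair of maximal elements the group has order at most two. -/
theorem small_of_commute (S : Setting G V) [Nontrivial V] (hirr : Irr G V)
    (hcomm : ∀ r t : G, IsMax V r → IsMax V t → Commute r t) :
    Nat.card G ≤ 2 ∧ (Nat.card V).Prime := by
  have := S.finite
  have := S.finiteG
  by_cases htriv : ∀ g : G, g = 1
  · have : Subsingleton G := ⟨fun a b => (htriv a).trans (htriv b).symm⟩
    refine ⟨(Finite.card_le_one_iff_subsingleton.2 this).trans (by norm_num), ?_⟩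
    have : IsSimpleAddGroup V := ⟨fun W _ => hirr W fun g w hw => by rwa [htriv g, one_smul]⟩
    exact IsSimpleAddGroup.prime_card
  push Not at htriv
  obtain ⟨g₀, hg₀⟩ := htriv
  obtain ⟨r, hr, -⟩ := S.exists_isMax (V := V) hg₀
  obtain ⟨⟨a, ha⟩, ha'⟩ := AddSubgroup.ne_bot_iff_exists_ne_zero.1 (S.img_ne_bot hr)
  have ha0 : a ≠ 0 := fun e => ha' (Subtype.ext e)
  clear ha' 
  rcases S.char with h2 | h2
  · exfalso
    let M : AddSubgroup V := ⨅ s : {s : G // IsMax V s}, fix s.1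
    have hM : ∀ g : G, ∀ w ∈ M, g • w ∈ M := fun g w hw => by
      simp only [M, AddSubgroup.mem_iInf] at hw ⊢
      intro s
      have h := mem_fix_conj (h := g) (g := g⁻¹ * s.1 * g) (v := w)
      rw [show g * (g⁻¹ * s.1 * g) * g⁻¹ = s.1 by group] at h
      exact h.2 (hw ⟨_, by simpa using! isMax_conj s.2 g⁻¹⟩)
    have haM : a ∈ M := by
      simp only [M, AddSubgroup.mem_iInf]
      intro s
      have h := S.eq_or_neg hr (hcomm _ _ s.2 hr) ha
      rw [mem_fix]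
      rcases h with h | h
      · exact h
      · rw [h]; exact neg_eq_of_add_eq_zero_right (h2 a)
    rcases hirr M hM with e | e
    · exact ha0 (by simpa [e] using haM)
    · exact hr.1 (S.eq_one_of_fix_top (top_unique (e.ge.trans (iInf_le _ (⟨r, hr⟩ : {s : G // IsMax V s})))))
  have half : ∀ {s : G}, IsMax V s → ∀ d ∈ img (V := V) s, ∃ c ∈ img (V := V) s, s • c = c + d := by
    intro s hs d hd
    have hmem : ∀ c : img (V := V) s, s • (c : V) - c ∈ img (V := V) s := fun c => ⟨(c : V), rfl⟩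
    have hinj : Function.Injective (fun c : img (V := V) s => (⟨s • (c : V) - c, hmem c⟩ : img (V := V) s)) := by
      intro c c' hcc
      have e : s • (c : V) - c = s • (c' : V) - c' := congrArg Subtype.val hcc
      rw [sub_eq_sub_iff_sub_eq_sub, ← smul_sub] at e
      have h : (c : V) - c' ∈ img (V := V) s ⊓ fix s :=
        ⟨(img s).sub_mem c.2 c'.2, mem_fix.2 e⟩
      rw [S.img_inf_fix_odd h2 hs, AddSubgroup.mem_bot, sub_eq_zero] at h
      exact Subtype.ext h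
    obtain ⟨⟨c, hc⟩, e⟩ := Finite.surjective_of_injective hinj ⟨d, hd⟩
    exact ⟨c, hc, sub_eq_iff_eq_add'.1 (congrArg Subtype.val e)⟩
  have hW : ∀ g : G, g * r * g⁻¹ = r := by
    intro g
    by_contra hne
    set r₂ := g * r * g⁻¹ with hr₂d
    have hr₂ : IsMax V r₂ := isMax_conj hr g
    set b := g • a with hb
    have hbr : b ∈ img r₂ := mem_img_conj ha
    have hb0 : b ≠ 0 := fun e => ha0 (by rwa [hb, smul_eq_zero_iff_eq] at e)
    have hc := hcomm r r₂ hr hr₂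
    have hW₂ := S.img_le_fix hr hr₂ hc (Ne.symm hne)
    have hW₁ := S.img_le_fix hr₂ hr hc.symm hne
    obtain ⟨a₁, ha₁, e₁⟩ := half hr (-a) ((img r).neg_mem ha)
    obtain ⟨a₂, ha₂, e₂⟩ := half hr₂ b hbr
    obtain ⟨k, hk⟩ := S.fam (b - a)
    have hka : k • a = a + (b - a) := hk g a (by rw [hb]; abel)
    have hk1 : ∀ f ∈ fix r ⊓ fix r₂, k • (a₁ + a₂ + f) = a₁ + a₂ + f + (b - a) := fun f hf => by
      refine hk (r * r₂) _ ?_
      rw [mul_smul, smul_add, smul_add, smul_add, smul_add, mem_fix.1 (hW₁ ha₁), e₂, smul_add, e₁,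
        mem_fix.1 (hW₂ ha₂), mem_fix.1 (hW₂ hbr), mem_fix.1 hf.2, mem_fix.1 hf.1]
      abel
    have k0 := hk1 0 (zero_mem _)
    rw [add_zero] at k0
    have hf : ∀ f ∈ fix r ⊓ fix r₂, f ∈ fix k := fun f hf => mem_fix.2 (by
      have h := hk1 f hf
      rw [smul_add, k0] at h
      exact add_left_cancel (a := a₁ + a₂ + (b - a)) (h.trans (by abel)))
    have hz : a - (a₁ + a₂) ∈ fix k := mem_fix.2 (by rw [smul_sub, hka, k0]; abel)
    have hk' : k ≠ 1 := fun e => by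
      rw [e, one_smul, left_eq_add, sub_eq_zero] at hka
      exact hne (S.eq_of_img hr₂ hr hbr (hka ▸ ha) hb0)
    obtain ⟨r₀, hr₀, hle⟩ := S.exists_isMax (V := V) hk'
    have hzr := mem_fix.1 (hle hz)
    by_cases h1 : r₀ = r
    · subst h1
      rw [show a - (a₁ + a₂) = a - a₁ - a₂ by abel, smul_sub r₀ (a - a₁) a₂, mem_fix.1 (hW₂ ha₂),
        sub_left_inj, smul_sub, S.smul_img hr₀ ha, e₁] at hzr
      refine ha0 ?_
      calc a = a - a₁ - (-a - (a₁ + -a)) := by abel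
        _ = 0 := by rw [hzr]; abel
    by_cases h3 : r₀ = r₂
    · subst h3
      have hax : r₂ • (a - a₁) = a - a₁ := mem_fix.1 (hW₁ ((img r).sub_mem ha ha₁))
      rw [show a - (a₁ + a₂) = a - a₁ - a₂ by abel, smul_sub r₂ (a - a₁) a₂, hax, sub_right_inj,
        e₂, add_eq_left] at hzr
      exact hb0 hzr
    refine hr₀.1 (S.eq_one_of_fix_top (eq_top_iff.2 fun v _ => ?_))
    obtain ⟨w, hw, ew⟩ := half hr (r • v - v) ⟨v, rfl⟩
    obtain ⟨w₂, hw₂, ew₂⟩ := half hr₂ (r₂ • (v - w) - (v - w)) ⟨v - w, rfl⟩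
    have hv₁ : v - w ∈ fix r := mem_fix.2 (by rw [smul_sub, ew]; abel)
    have hv₂ : v - w - w₂ ∈ fix r ⊓ fix r₂ :=
      ⟨(fix r).sub_mem hv₁ (hW₂ hw₂), mem_fix.2 (by rw [smul_sub, ew₂]; abel)⟩
    have hi₁ := S.img_le_fix hr₀ hr (hcomm _ _ hr₀ hr) h1 hw
    have hi₂ := S.img_le_fix hr₀ hr₂ (hcomm _ _ hr₀ hr₂) h3 hw₂
    have := (fix r₀).add_mem ((fix r₀).add_mem hi₁ hi₂) (hle (hf _ hv₂))
    rwa [show w + w₂ + (v - w - w₂) = v by abel] at this
  have hcr : ∀ g : G, Commute g r := fun g => mul_inv_eq_iff_eq_mul.1 (hW g)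
  have hWtop : img (V := V) r = ⊤ := (hirr _ fun g w hw => mem_img_comm (hcr g) hw).resolve_left (S.img_ne_bot hr)
  have hall : ∀ g : G, g = 1 ∨ g = r := by
    intro g
    rcases S.eq_or_neg hr (hcr g) ha with h | h
    · exact Or.inl (S.eq_one fun v => S.fix_img hr (hcr g) ha ha0 h (hWtop ▸ AddSubgroup.mem_top v))
    · refine Or.inr (eq_inv_of_mul_eq_one_left (S.eq_one fun v => ?_) |>.trans (S.inv_eq hr))
      refine S.fix_img hr ((hcr g).mul_left (Commute.refl r)) ha ha0 ?_ (hWtop ▸ AddSubgroup.mem_top v)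
      rw [mul_smul, S.smul_img hr ha, smul_neg, h, neg_neg]
  refine ⟨?_, ?_⟩
  · classical
    have : Fintype G := Fintype.ofFinite G
    rw [Nat.card_eq_fintype_card]
    refine (Finset.card_le_card (fun x _ => ?_)).trans (Finset.card_le_two (a := (1 : G)) (b := r))
    rcases hall x with rfl | rfl <;> simp
  · have : IsSimpleAddGroup V := ⟨fun W _ => hirr W fun g w hw => by
      rcases hall g with rfl | rfl
      · rwa [one_smul]
      · rw [S.smul_img hr (hWtop ▸ AddSubgroup.mem_top w)]; exact W.neg_mem hw⟩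
    exact IsSimpleAddGroup.prime_card

end Cfsg.Agent.BinaryAffine
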