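import Cfsg.Agent.Lib.BinaryAffine.Basic

/-!
Two noncommuting maximal elements `r, t` split `V` as the sum of their plane `U` and the fixed space `F`;
the product `r * t` and its negative have no fixed points on `U`.
-/

set_option autoImplicit false

namespace Cfsg.Agent.BinaryAffine

variable {G V : Type*} [Group G] [AddCommGroup V] [DistribMulAction G V]

/-- A noncommuting pair of maximal elements. -/
structure Pair (G V : Type*) [Group G] [AddCommGroup V] [DistribMulAction G V] where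
  S : Setting G V
  r : G
  t : G
  hr : IsMax V r
  ht : IsMax V t
  hnc : ¬ Commute r t

namespace Pair

variable (P : Pair G V)

/-- The plane of the pair. -/
def U : AddSubgroup V := img P.r ⊔ img P.t

/-- The common fixed space of the pair. -/
def F : AddSubgroup V := fix P.r ⊓ fix P.t

/-- A maximal element fixing the common fixed space. -/
def Mem (k : G) : Prop := IsMax V k ∧ P.F ≤ fix k

lemma ne : P.r ≠ P.t := fun h => P.hnc (h ▸ Commute.refl _)

lemma mem_r : P.Mem P.r := ⟨P.hr, inf_le_left⟩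

lemma mem_t : P.Mem P.t := ⟨P.ht, inf_le_right⟩

/-- The symmetric pair. -/
def swap : Pair G V := ⟨P.S, P.t, P.r, P.ht, P.hr, fun h => P.hnc h.symm⟩

lemma U_swap : P.swap.U = P.U := sup_comm _ _

lemma F_swap : P.swap.F = P.F := inf_comm _ _

lemma card_img_le : Nat.card (img (V := V) P.r) ≤ Nat.card (img (V := V) P.t) := by
  have := P.S.finite
  refine Nat.card_le_card_of_injective
    (fun a : img (V := V) P.r => (⟨mv P.t a, a, rfl⟩ : img (V := V) P.t)) fun a b hab => ?_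
  have h : mv P.t (a : V) = mv P.t (b : V) := congrArg Subtype.val hab
  rw [← sub_eq_zero, ← map_sub, mv_apply, sub_eq_zero] at h
  exact Subtype.ext (sub_eq_zero.1 (P.S.eq_zero_of_not_commute P.hr P.hnc ((img P.r).sub_mem a.2 b.2) h))

lemma card_img_t : Nat.card (img (V := V) P.t) = Nat.card (img (V := V) P.r) :=
  le_antisymm P.swap.card_img_le P.card_img_le

lemma img_inf : img P.r ⊓ img P.t = (⊥ : AddSubgroup V) :=
  eq_bot_iff.2 fun a ha => AddSubgroup.mem_bot.2 <| by_contra fun h =>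
    P.ne (P.S.eq_of_img P.hr P.ht ha.1 ha.2 h)

/-- A displacement of `r` and one of `t` whose sum is fixed by both are zero. -/
lemma eq_zero_of_fixed {w w' : V} (hw : w ∈ img P.r) (hw' : w' ∈ img P.t)
    (h1 : P.r • (w + w') = w + w') (h2 : P.t • (w + w') = w + w') : w + w' = 0 := by
  have e1 : P.r • w' = w + w + w' := by
    rw [smul_add, P.S.smul_img P.hr hw] at h1
    calc P.r • w' = -w + P.r • w' + w := by abel
      _ = _ := by rw [h1]; abel
  have e2 : P.t • w = w + (w' + w') := by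
    rw [smul_add, P.S.smul_img P.ht hw'] at h2
    calc P.t • w = P.t • w + -w' + w' := by abel
      _ = _ := by rw [h2]; abel
  rcases P.S.char with hc | hc
  · have z1 : w' = 0 := P.S.eq_zero_of_not_commute P.ht (fun h => P.hnc h.symm) hw'
      (by rw [e1, hc w, zero_add])
    have z2 : w = 0 := P.S.eq_zero_of_not_commute P.hr P.hnc hw (by rw [e2, hc w', add_zero])
    rw [z1, z2, add_zero]
  · have hx : (P.r * P.t) • (w + w') = w + w' := by rw [mul_smul, h2, h1]
    have hg : (P.r * P.t) • w = w + ((w + w') + (w + w')) := by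
      rw [mul_smul, e2, smul_add, smul_add, P.S.smul_img P.hr hw, e1]; abel
    have h := P.S.add_self_eq_zero hg (by rw [smul_add, hx])
    exact hc _ (hc _ h)

lemma U_inf_F : P.U ⊓ P.F = ⊥ := by
  refine eq_bot_iff.2 fun x hx => AddSubgroup.mem_bot.2 ?_
  obtain ⟨w, hw, w', hw', rfl⟩ := AddSubgroup.mem_sup.1 hx.1
  exact P.eq_zero_of_fixed hw hw' (mem_fix.1 hx.2.1) (mem_fix.1 hx.2.2)

lemma card_U : Nat.card P.U = Nat.card (img (V := V) P.r) * Nat.card (img (V := V) P.r) := by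
  rw [U, card_sup_of_inf_eq_bot P.img_inf, P.card_img_t]

lemma U_sup_F : P.U ⊔ P.F = ⊤ := by
  have := P.S.finite
  refine AddSubgroup.eq_top_of_le_card _ ?_
  rw [card_sup_of_inf_eq_bot P.U_inf_F, P.card_U]
  calc Nat.card V = Nat.card (fix (V := V) P.r) * Nat.card (img (V := V) P.r) := (card_fix_mul_img _).symm
    _ ≤ Nat.card P.F * Nat.card (img (V := V) P.t) * Nat.card (img (V := V) P.r) :=
        Nat.mul_le_mul_right _ (card_le_inf_fix_mul _ _)
    _ = _ := by rw [P.card_img_t]; ring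

lemma card_F : Nat.card P.F * (Nat.card (img (V := V) P.r) * Nat.card (img (V := V) P.r)) = Nat.card V := by
  rw [← P.card_U, mul_comm, ← card_sup_of_inf_eq_bot P.U_inf_F, P.U_sup_F, AddSubgroup.card_top]

lemma exists_decomp (v : V) : ∃ u ∈ P.U, ∃ f ∈ P.F, u + f = v :=
  AddSubgroup.mem_sup.1 (P.U_sup_F ▸ AddSubgroup.mem_top v)

lemma smul_F {x : G} (hx : P.F ≤ fix x) {f : V} (hf : f ∈ P.F) : x • f = f := mem_fix.1 (hx hf)

lemma smul_mem_U_r {x : V} (hx : x ∈ P.U) : P.r • x ∈ P.U := by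
  have h : P.r • x = x + mv P.r x := by simp
  rw [h]
  exact P.U.add_mem hx (AddSubgroup.mem_sup_left ⟨x, rfl⟩)

lemma smul_mem_U_t {x : V} (hx : x ∈ P.U) : P.t • x ∈ P.U := P.U_swap ▸ P.swap.smul_mem_U_r (P.U_swap ▸ hx)

/-- The rotation of the pair. -/
def g : G := P.r * P.t

lemma smul_mem_U_g {x : V} (hx : x ∈ P.U) : P.g • x ∈ P.U := by
  rw [g, mul_smul]; exact P.smul_mem_U_r (P.smul_mem_U_t hx)

lemma F_le_fix_g : P.F ≤ fix P.g := fun _ hf => mem_fix_mul hf.1 hf.2

lemma eq_zero_of_smul_g {x : V} (hx : x ∈ P.U) (h : P.g • x = x) : x = 0 := by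
  have e : P.t • x = P.r • x := by
    conv_rhs => rw [← h, g, mul_smul, P.S.smul_smul_self P.hr]
  have hz : mv P.r x = 0 := by
    have h1 : mv P.r x ∈ img P.r ⊓ img P.t := ⟨⟨x, rfl⟩, ⟨x, by simp [e]⟩⟩
    rwa [P.img_inf, AddSubgroup.mem_bot] at h1
  rw [mv_apply, sub_eq_zero] at hz
  have h2 : x ∈ P.U ⊓ P.F := ⟨hx, mem_fix.2 hz, mem_fix.2 (e.trans hz)⟩
  rwa [P.U_inf_F, AddSubgroup.mem_bot] at h2

lemma eq_zero_of_smul_g_neg {x : V} (hx : x ∈ P.U) (h : P.g • x = -x) : x = 0 := by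
  have e : P.t • x = -(P.r • x) := by
    rw [← smul_neg, ← h, g, mul_smul, P.S.smul_smul_self P.hr]
  obtain ⟨w, hw, w', hw', rfl⟩ := AddSubgroup.mem_sup.1 hx
  have h1 : mv P.t w + mv P.r w' = 0 := by
    rw [smul_add, smul_add, P.S.smul_img P.hr hw, P.S.smul_img P.ht hw'] at e
    rw [mv_apply, mv_apply]
    calc P.t • w - w + (P.r • w' - w') = (P.t • w + -w') + (-w + P.r • w') := by abel
      _ = 0 := by rw [e]; abel
  have hA : mv P.t w ∈ img P.r ⊓ img P.t :=
    ⟨eq_neg_of_add_eq_zero_left h1 ▸ (img P.r).neg_mem ⟨w', rfl⟩, ⟨w, rfl⟩⟩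
  rw [P.img_inf, AddSubgroup.mem_bot] at hA
  rw [hA, zero_add] at h1
  rw [mv_apply, sub_eq_zero] at hA h1
  rw [P.S.eq_zero_of_not_commute P.hr P.hnc hw hA,
    P.S.eq_zero_of_not_commute P.ht (fun h => P.hnc h.symm) hw' h1, add_zero]

lemma exists_g_solution {d : V} (hd : d ∈ P.U) : ∃ a ∈ P.U, P.g • a = a + d := by
  have := P.S.finite
  have hinj : Function.Injective
      (fun a : P.U => (⟨P.g • (a : V) - a, P.U.sub_mem (P.smul_mem_U_g a.2) a.2⟩ : P.U)) := fun a b hab => by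
    have h : P.g • (a : V) - a = P.g • (b : V) - b := congrArg Subtype.val hab
    refine Subtype.ext (sub_eq_zero.1 (P.eq_zero_of_smul_g (P.U.sub_mem a.2 b.2) ?_))
    rw [smul_sub]; exact sub_eq_sub_iff_sub_eq_sub.1 h
  obtain ⟨⟨a, ha⟩, h⟩ := Finite.surjective_of_injective hinj ⟨d, hd⟩
  exact ⟨a, ha, sub_eq_iff_eq_add'.1 (congrArg Subtype.val h)⟩

/-- One element moves some point by `d`, fixes `F`, and fixes a nonzero vector of `U`. -/
lemma exists_mover {d : V} (hd : d ∈ P.U) (hd0 : d ≠ 0) : ∃ (k : G) (a u : V), a ∈ P.U ∧ u ∈ P.U ∧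
    u ≠ 0 ∧ k ≠ 1 ∧ P.F ≤ fix k ∧ k • u = u ∧ k • a = a + d ∧ k • d = -d := by
  obtain ⟨a, ha, hga⟩ := P.exists_g_solution hd
  obtain ⟨k, hk⟩ := P.S.fam d
  have ha0 : a ≠ 0 := fun h => hd0 (by rw [h, smul_zero, zero_add] at hga; exact hga.symm)
  have hka := hk P.g a hga
  have hkb : k • -(P.g • a) = -(P.g • a) + d := hk P.g⁻¹ _ (by rw [smul_neg, inv_smul_smul, hga]; abel)
  refine ⟨k, a, -(P.g • a) - a, ha, P.U.sub_mem (P.U.neg_mem (P.smul_mem_U_g ha)) ha, fun h => ha0 ?_,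
    fun h => hd0 ?_, fun f hf => ?_, ?_, hka, ?_⟩
  · refine P.eq_zero_of_smul_g_neg ha ?_
    rw [sub_eq_zero] at h
    exact neg_eq_iff_eq_neg.1 h
  · rwa [h, one_smul, left_eq_add] at hka
  · refine mem_fix.2 ?_
    have h := hk P.g (a + f) (by rw [smul_add, hga, P.smul_F P.F_le_fix_g hf]; abel)
    rw [smul_add, hka] at h
    exact add_left_cancel (a := a + d) (h.trans (by abel))
  · rw [smul_sub, hkb, hka]; abel
  · rw [hga, smul_neg, smul_add, hka] at hkb
    calc k • d = a + d + k • d + -(a + d) := by abel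
      _ = -(-(a + d + k • d)) + -(a + d) := by rw [neg_neg]
      _ = _ := by rw [hkb]; abel

variable {k k' : G}

lemma not_commute_left_or_right (hk : P.Mem k) : ¬ Commute k P.r ∨ ¬ Commute k P.t := by
  by_contra h
  push Not at h
  have hkr : k ≠ P.r := fun e => P.hnc (e ▸ h.2)
  have hkt : k ≠ P.t := fun e => P.hnc (e ▸ h.1).symm
  refine hk.1.1 (P.S.eq_one_of_fix_top (eq_top_iff.2 ?_))
  rw [← P.U_sup_F]
  exact sup_le (sup_le (P.S.img_le_fix hk.1 P.hr h.1 hkr) (P.S.img_le_fix hk.1 P.ht h.2 hkt)) hk.2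

/-- `k` together with one of the pair. -/
lemma exists_pair (hk : P.Mem k) : ∃ Q : Pair G V, Q.r = k ∧ (Q.t = P.r ∨ Q.t = P.t) := by
  rcases P.not_commute_left_or_right hk with h | h
  · exact ⟨⟨P.S, k, P.r, hk.1, P.hr, h⟩, rfl, Or.inl rfl⟩
  · exact ⟨⟨P.S, k, P.t, hk.1, P.ht, h⟩, rfl, Or.inr rfl⟩

lemma card_img_of_mem (hk : P.Mem k) : Nat.card (img (V := V) k) = Nat.card (img (V := V) P.r) := by
  obtain ⟨Q, hQr, hQt⟩ := P.exists_pair hk
  rw [← hQr, ← Q.card_img_t]
  rcases hQt with h | h <;> rw [h]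
  exact P.card_img_t

lemma card_fix_of_mem (hk : P.Mem k) :
    Nat.card (fix (V := V) k) = Nat.card P.F * Nat.card (img (V := V) P.r) := by
  have := P.S.finite
  refine mul_right_cancel₀ (b := Nat.card (img (V := V) P.r)) (Nat.card_pos).ne' ?_
  rw [mul_assoc, P.card_F, ← P.card_img_of_mem hk, card_fix_mul_img]

lemma img_inf_F (hk : P.Mem k) : img k ⊓ P.F = ⊥ := by
  refine eq_bot_iff.2 fun a ha => AddSubgroup.mem_bot.2 <| by_contra fun ha0 => ?_
  rcases P.not_commute_left_or_right hk with h | h <;>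
    refine h (P.S.commute_of_fix hk.1 ha.1 ha0 ?_).symm
  exacts [mem_fix.1 ha.2.1, mem_fix.1 ha.2.2]

/-- Elements of the pair sharing a fixed vector of `U` commute. -/
lemma commute_of_share (hk : P.Mem k) (hk' : P.Mem k') {u : V} (hu : u ∈ P.U) (hu0 : u ≠ 0)
    (h : k • u = u) (h' : k' • u = u) : Commute k k' := by
  by_contra hnc
  have := P.S.finite
  let Q : Pair G V := ⟨P.S, k, k', hk.1, hk'.1, hnc⟩
  have hc : Nat.card Q.F = Nat.card P.F := by
    refine mul_right_cancel₀ (b := Nat.card (img (V := V) P.r) * Nat.card (img (V := V) P.r))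
      (Nat.mul_pos Nat.card_pos Nat.card_pos).ne' ?_
    rw [P.card_F, ← P.card_img_of_mem hk]
    exact Q.card_F
  have hle : P.F ≤ Q.F := le_inf hk.2 hk'.2
  have huF : u ∈ P.F := by
    rw [AddSubgroup.eq_of_le_of_card_ge hle hc.le]
    exact ⟨mem_fix.2 h, mem_fix.2 h'⟩
  have : u ∈ P.U ⊓ P.F := ⟨hu, huF⟩
  rw [P.U_inf_F, AddSubgroup.mem_bot] at this
  exact hu0 this

/-- Two different elements of the pair sharing a fixed vector of `U` live in characteristic two and
have the same fixed space. -/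
lemma share_aux (hk : P.Mem k) (hk' : P.Mem k') {u : V} (hu : u ∈ P.U) (hu0 : u ≠ 0)
    (h : k • u = u) (h' : k' • u = u) (hne : k ≠ k') :
    (∀ v : V, v + v = 0) ∧ fix (V := V) k = fix k' := by
  have := P.S.finite
  have hc := P.commute_of_share hk hk' hu hu0 h h'
  rcases P.S.char with h2 | h2
  · have le_of : ∀ {x y : G}, P.Mem x → P.Mem y → Commute x y → x ≠ y →
        fix (V := V) x ≤ fix y := by
      intro x y hx hy hxy hxy'
      have e : img y ⊔ P.F = fix (V := V) x := by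
        refine AddSubgroup.eq_of_le_of_card_ge (sup_le (P.S.img_le_fix hx.1 hy.1 hxy hxy') hx.2) ?_
        rw [card_sup_of_inf_eq_bot (P.img_inf_F hy), P.card_fix_of_mem hx, P.card_img_of_mem hy, mul_comm]
      rw [← e]
      refine sup_le (fun a ha => mem_fix.2 ?_) hy.2
      rw [P.S.smul_img hy.1 ha]
      exact neg_eq_of_add_eq_zero_right (h2 a)
    exact ⟨h2, le_antisymm (le_of hk hk' hc hne) (le_of hk' hk hc.symm hne.symm)⟩
  · exfalso
    set M := fix (V := V) k ⊓ fix k' with hM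
    have hdis : img k' ⊓ M = ⊥ := eq_bot_iff.2 fun a ha => AddSubgroup.mem_bot.2 <| h2 a <| by
      have e := P.S.smul_img hk'.1 ha.1
      rw [mem_fix.1 ha.2.2] at e
      exact eq_neg_iff_add_eq_zero.1 e
    have hle : img k' ⊔ M ≤ fix k := sup_le (P.S.img_le_fix hk.1 hk'.1 hc hne) inf_le_left
    have hcard := AddSubgroup.card_le_of_le hle
    rw [card_sup_of_inf_eq_bot hdis, P.card_fix_of_mem hk, P.card_img_of_mem hk', mul_comm] at hcard
    have hFM : P.F ≤ M := le_inf hk.2 hk'.2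
    have huM : u ∈ P.F := by
      rw [AddSubgroup.eq_of_le_of_card_ge hFM (Nat.le_of_mul_le_mul_right hcard Nat.card_pos)]
      exact ⟨mem_fix.2 h, mem_fix.2 h'⟩
    have : u ∈ P.U ⊓ P.F := ⟨hu, huM⟩
    rw [P.U_inf_F, AddSubgroup.mem_bot] at this
    exact hu0 this

end Pair

end Cfsg.Agent.BinaryAffine
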