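import Cfsg.Agent.Lib.BinaryAffine.Roots

/-!
The group of elements fixing `F` pointwise: it consists of the reflections (the members of the pair)
and of an abelian group of rotations.
-/

set_option autoImplicit false

namespace Cfsg.Agent.BinaryAffine

variable {G V : Type*} [Group G] [AddCommGroup V] [DistribMulAction G V]

namespace Pair

variable (P : Pair G V) {k k' x y : G}

/-- The fixed vectors of `k` in the plane. -/
def L (k : G) : AddSubgroup V := fix k ⊓ P.U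

lemma mem_L {k : G} {v : V} : v ∈ P.L k ↔ k • v = v ∧ v ∈ P.U := by
  rw [L, AddSubgroup.mem_inf, mem_fix]

lemma L_sup_F (hk : P.F ≤ fix k) : P.L k ⊔ P.F = fix (V := V) k := by
  refine le_antisymm (sup_le inf_le_left hk) fun v hv => ?_
  obtain ⟨u, hu, f, hf, rfl⟩ := P.exists_decomp v
  refine AddSubgroup.add_mem_sup ⟨?_, hu⟩ hf
  have := (fix k).sub_mem hv (hk hf)
  rwa [add_sub_cancel_right] at this

lemma card_L (hk : P.Mem k) : Nat.card (P.L k) = Nat.card (img (V := V) P.r) := by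
  have := P.S.finite
  have h : P.L k ⊓ P.F = ⊥ := eq_bot_iff.2 fun x hx => P.U_inf_F ▸ (⟨hx.1.2, hx.2⟩ : x ∈ P.U ⊓ P.F)
  have h1 := P.card_fix_of_mem hk
  rw [← P.L_sup_F hk.2, card_sup_of_inf_eq_bot h, mul_comm] at h1
  exact Nat.eq_of_mul_eq_mul_left Nat.card_pos h1

lemma exists_mem_L (hk : P.Mem k) : ∃ u ∈ P.L k, u ≠ 0 := by
  have := P.S.finite
  have h := P.S.one_lt_card_img P.hr
  rw [← P.card_L hk, AddSubgroup.one_lt_card_iff_ne_bot] at h
  by_contra hcon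
  push Not at hcon
  exact h ((AddSubgroup.eq_bot_iff_forall _).2 hcon)

lemma exists_partner (hk : P.Mem k) {d : V} (hd : d ∈ img k) (hdU : d ∈ P.U) (hd0 : d ≠ 0) :
    ∃ k' : G, P.Mem k' ∧ img k' = P.L k ∧ k' • d = d := by
  have := P.S.finite
  have fixes : ∀ {u : V} {j : G}, u ∈ P.L k → u ≠ 0 → P.Mem j → u ∈ img j → j • d = d := by
    intro u j hu hu0 hj huj
    have hku := (P.mem_L.1 hu).1
    by_cases hjk : j = k
    · subst hjk
      have h1 := P.S.smul_img hj.1 huj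
      rw [hku, eq_neg_iff_add_eq_zero] at h1
      rcases P.S.char with h2 | h2
      · exact mem_fix.1 (P.S.smul_img_two h2 hj.1 hd)
      · exact absurd (h2 u h1) hu0
    · exact mem_fix.1 (P.S.img_le_fix hj.1 hk.1 (P.S.commute_of_fix hj.1 huj hu0 hku).symm hjk hd)
  obtain ⟨u, hu, hu0⟩ := P.exists_mem_L hk
  obtain ⟨k', hk', huk', -⟩ := P.exists_root (P.mem_L.1 hu).2 hu0
  refine ⟨k', hk', (AddSubgroup.eq_of_le_of_card_ge ?_ ?_).symm, fixes hu hu0 hk' huk'⟩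
  · intro v hv
    rcases eq_or_ne v 0 with rfl | hv0
    · exact zero_mem _
    obtain ⟨j, hj, hvj, -⟩ := P.exists_root (P.mem_L.1 hv).2 hv0
    rwa [← P.share hj hk' hdU hd0 (fixes hv hv0 hj hvj) (fixes hu hu0 hk' huk')]
  · rw [P.card_L hk, P.card_img_of_mem hk']

lemma img_le_U_of_mem_img (hk : P.Mem k) {d : V} (hd : d ∈ img k) (hdU : d ∈ P.U) (hd0 : d ≠ 0) :
    img (V := V) k ≤ P.U ∧ ∃ k' : G, P.Mem k' ∧ img k = P.L k' ∧ img (V := V) k' ≤ P.U := by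
  obtain ⟨k', hk', hk'L, hk'd⟩ := P.exists_partner hk hd hdU hd0
  obtain ⟨u, hu, hu0⟩ := P.exists_mem_L hk
  obtain ⟨k'', hk'', hk''L, -⟩ := P.exists_partner hk' (hk'L ▸ hu) (P.mem_L.1 hu).2 hu0
  have hdk'' : d ∈ img (V := V) k'' := hk''L ▸ P.mem_L.2 ⟨hk'd, hdU⟩
  obtain rfl := P.S.eq_of_img hk''.1 hk.1 hdk'' hd hd0
  exact ⟨hk''L ▸ inf_le_right, k', hk', hk''L, hk'L ▸ inf_le_right⟩

lemma img_le_U (hk : P.Mem k) : img (V := V) k ≤ P.U := by
  obtain ⟨u, hu, hu0⟩ := P.exists_mem_L hk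
  obtain ⟨k₀, hk₀, huk₀, -⟩ := P.exists_root (P.mem_L.1 hu).2 hu0
  obtain ⟨-, k₁, hk₁, he, hk₁U⟩ := P.img_le_U_of_mem_img hk₀ huk₀ (P.mem_L.1 hu).2 hu0
  rw [he] at huk₀
  rwa [P.share hk hk₁ (P.mem_L.1 hu).2 hu0 (P.mem_L.1 hu).1 (P.mem_L.1 huk₀).1]

lemma exists_img_eq_L (hk : P.Mem k) : ∃ k' : G, P.Mem k' ∧ img k' = P.L k := by
  obtain ⟨⟨d, hd⟩, hd0⟩ := AddSubgroup.ne_bot_iff_exists_ne_zero.1 (P.S.img_ne_bot hk.1)
  obtain ⟨k', hk', he, -⟩ := P.exists_partner hk hd (P.img_le_U hk hd) fun e => hd0 (Subtype.ext e)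
  exact ⟨k', hk', he⟩

lemma not_fix_U (hx : P.F ≤ fix x) (h : ∀ u ∈ P.U, x • u = u) : x = 1 :=
  P.S.eq_one_of_fix_top (eq_top_iff.2 (P.U_sup_F ▸ sup_le (fun u hu => mem_fix.2 (h u hu)) hx))

/-- An element fixing `F` and a nonzero vector of the plane is trivial or a reflection. -/
theorem eq_one_or_mem (hx : P.F ≤ fix x) {u : V} (hu : u ∈ P.U) (hu0 : u ≠ 0) (h : x • u = u) :
    x = 1 ∨ P.Mem x := by
  by_cases hx1 : x = 1
  · exact Or.inl hx1
  refine Or.inr ⟨?_, hx⟩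
  obtain ⟨r₁, hr₁, hle⟩ := P.S.exists_isMax (V := V) hx1
  have hm : P.Mem r₁ := ⟨hr₁, hx.trans hle⟩
  have hru : r₁ • u = u := mem_fix.1 (hle (mem_fix.2 h))
  obtain ⟨k', hk', he⟩ := P.exists_img_eq_L hm
  have huk' : u ∈ img k' := he ▸ P.mem_L.2 ⟨hru, hu⟩
  have hc := P.S.commute_of_fix hk'.1 huk' hu0 h
  refine isMax_of_fix_le hr₁ hx1 ((P.L_sup_F hm.2).ge.trans (sup_le ?_ hx))
  rw [← he]
  exact fun b hb => mem_fix.2 (P.S.fix_img hk'.1 hc huk' hu0 h hb)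

lemma mem_unique (hk : P.Mem k) (hx : P.F ≤ fix x) (hx1 : x ≠ 1) {u : V} (hu : u ∈ P.U) (hu0 : u ≠ 0)
    (hku : k • u = u) (h : x • u = u) : x = k :=
  P.share ((P.eq_one_or_mem hx hu hu0 h).resolve_left hx1) hk hu hu0 h hku

lemma smul_mem_U (hx : P.F ≤ fix x) {u : V} (hu : u ∈ P.U) : x • u ∈ P.U := by
  obtain ⟨w, hw, w', hw', rfl⟩ := AddSubgroup.mem_sup.1 hu
  rw [smul_add]
  exact P.U.add_mem (P.img_le_U (P.mem_conj P.mem_r hx) (mem_img_conj hw))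
    (P.img_le_U (P.mem_conj P.mem_t hx) (mem_img_conj hw'))

/-- An element fixing `F` moves a vector of the plane like a reflection. -/
lemma exists_mem_smul_eq (hx : P.F ≤ fix x) {u : V} (hu : u ∈ P.U) (h : x • u ≠ u) :
    ∃ k : G, P.Mem k ∧ k • u = x • u := by
  have hd0 : x • u - u ≠ 0 := sub_ne_zero.2 h
  obtain ⟨k, hk, hdk, -⟩ := P.exists_root (P.U.sub_mem (P.smul_mem_U hx hu) hu) hd0
  exact ⟨k, hk, (P.S.move_eq hk.1 hdk hd0 (g := x) (a := u) (by abel)).trans (by abel)⟩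

/-- A rotation: an element fixing `F` that is not a reflection. -/
def Rot (x : G) : Prop := P.F ≤ fix x ∧ ¬ P.Mem x

lemma rot_one : P.Rot 1 := ⟨fun f _ => by simp [fix_one], fun h => h.1.1 rfl⟩

lemma not_mem_mul (hk : P.Mem k) (hk' : P.Mem k') : P.Rot (k * k') := by
  refine ⟨fun f hf => mem_fix_mul (hk.2 hf) (hk'.2 hf), fun hm => ?_⟩
  obtain ⟨u, hu, hu0⟩ := P.exists_mem_L hm
  obtain ⟨hu', huU⟩ := P.mem_L.1 hu
  have e : k' • u = k • u := by
    conv_rhs => rw [← hu', mul_smul, P.S.smul_smul_self hk.1]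
  by_cases hne : k = k'
  · subst hne
    exact hm.1.1 (P.S.mul_self hk.1)
  refine hne (P.share hk hk' huU hu0 ?_ ?_)
  · by_contra hd
    exact hne (P.S.eq_of_img hk.1 hk'.1 (d := k • u - u) (mem_img.2 ⟨u, by abel⟩)
      (mem_img.2 ⟨u, by rw [e]; abel⟩) (sub_ne_zero.2 hd))
  · by_contra hd
    exact hne (P.S.eq_of_img hk.1 hk'.1 (d := k' • u - u) (mem_img.2 ⟨u, by rw [← e]; abel⟩)
      (mem_img.2 ⟨u, by abel⟩) (sub_ne_zero.2 hd))

lemma mem_mul_of_rot (hx : P.Rot x) (hk : P.Mem k) : P.Mem (x * k) := by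
  obtain ⟨u, hu, hu0⟩ := P.exists_mem_L hk
  obtain ⟨hku, huU⟩ := P.mem_L.1 hu
  by_cases hxu : x • u = u
  · obtain rfl := (P.eq_one_or_mem hx.1 huU hu0 hxu).resolve_right hx.2
    rwa [one_mul]
  obtain ⟨j, hj, hju⟩ := P.exists_mem_smul_eq hx.1 huU hxu
  have hF : P.F ≤ fix (j * x) := fun f hf => mem_fix_mul (hj.2 hf) (hx.1 hf)
  have hfix : (j * x) • u = u := by rw [mul_smul, ← hju, P.S.smul_smul_self hj.1]
  by_cases h1 : j * x = 1
  · exact absurd (by rwa [eq_inv_of_mul_eq_one_right h1, P.S.inv_eq hj.1]) hx.2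
  have h2 := P.mem_unique hk hF h1 huU hu0 hku hfix
  have e : x = j * k := by rw [← h2, ← mul_assoc, P.S.mul_self hj.1, one_mul]
  rwa [e, mul_assoc, P.S.mul_self hk.1, mul_one]

/-- A reflection inverts every rotation. -/
lemma conj_rot (hx : P.Rot x) (hk : P.Mem k) : k * x * k = x⁻¹ := by
  have h := P.S.mul_self (P.mem_mul_of_rot hx hk).1
  rw [show k * x * k = x⁻¹ * (x * k * (x * k)) by group, h, mul_one]

lemma rot_mul (hx : P.Rot x) (hy : P.Rot y) : P.Rot (x * y) := by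
  have h1 := P.mem_mul_of_rot hx P.mem_r
  have h2 : P.Mem (P.r * y) := by
    have h := P.mem_conj (P.mem_mul_of_rot hy P.mem_r) P.mem_r.2
    rwa [show P.r * (y * P.r) * P.r⁻¹ = P.r * y by group] at h
  have := P.not_mem_mul h1 h2
  rwa [show x * P.r * (P.r * y) = x * (P.r * P.r) * y by group, P.S.mul_self P.hr, mul_one] at this

lemma rot_inv (hx : P.Rot x) : P.Rot x⁻¹ := by
  rw [← P.conj_rot hx P.mem_r, mul_assoc]
  exact P.not_mem_mul P.mem_r (P.mem_mul_of_rot hx P.mem_r)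

lemma rot_commute (hx : P.Rot x) (hy : P.Rot y) : Commute x y := by
  have hk := P.mem_mul_of_rot hy P.mem_r
  have e : y = y * P.r * P.r := by rw [mul_assoc, P.S.mul_self P.hr, mul_one]
  have h1 := P.conj_rot hx P.mem_r
  have h2 := P.conj_rot (P.rot_inv hx) hk
  rw [inv_inv] at h2
  have h3 : y * P.r * (P.r * x * P.r) * (y * P.r) = x := by rwa [h1]
  show x * y = y * x
  calc x * y = y * P.r * (P.r * x * P.r) * (y * P.r) * (y * P.r * P.r) := by rw [h3, ← e]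
    _ = (y * (P.r * P.r)) * x * (P.r * ((y * P.r) * (y * P.r))) * P.r := by group
    _ = _ := by rw [P.S.mul_self P.hr, P.S.mul_self hk.1, mul_one, mul_one, mul_assoc, P.S.mul_self P.hr, mul_one]

/-- The rotations. -/
def rotGroup : Subgroup G where
  carrier := {x | P.Rot x}
  one_mem' := P.rot_one
  mul_mem' := fun hx hy => P.rot_mul hx hy
  inv_mem' := fun hx => P.rot_inv hx

lemma smul_rot_ne {u : V} (hx : P.Rot x) (hu : u ∈ P.U) (hu0 : u ≠ 0) (hx1 : x ≠ 1) : x • u ≠ u :=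
  fun h => hx.2 ((P.eq_one_or_mem hx.1 hu hu0 h).resolve_left hx1)

lemma exists_unique_mem_img {u : V} (hu : u ∈ P.U) (hu0 : u ≠ 0) : ∃ k : G, P.Mem k ∧ u ∈ img k :=
  let ⟨k, hk, h, _⟩ := P.exists_root hu hu0
  ⟨k, hk, h⟩

theorem card_mem : Nat.card {k : G // P.Mem k} = Nat.card (img (V := V) P.r) + 1 := by
  classical
  have := P.S.finite
  have := P.S.finiteG
  set q := Nat.card (img (V := V) P.r) with hq
  have := Fintype.ofFinite {k : G // P.Mem k}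
  have hbij : Function.Bijective (fun x : (Σ k : {k : G // P.Mem k}, {v : img (V := V) k.1 // v ≠ 0}) =>
      (⟨⟨(x.2.1 : V), P.img_le_U x.1.2 x.2.1.2⟩, fun e => x.2.2 (Subtype.ext (congrArg (fun z : P.U => (z : V)) e))⟩ :
        {u : P.U // u ≠ 0})) := by
    constructor
    · rintro ⟨⟨k, hk⟩, ⟨⟨v, hv⟩, hv0⟩⟩ ⟨⟨k', hk'⟩, ⟨⟨v', hv'⟩, hv'0⟩⟩ h
      have e : v = v' := congrArg (fun z : {u : P.U // u ≠ 0} => ((z : P.U) : V)) h
      subst e
      obtain rfl := P.S.eq_of_img hk.1 hk'.1 hv hv' fun e => hv0 (Subtype.ext e)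
      rfl
    · rintro ⟨⟨u, hu⟩, hu0⟩
      obtain ⟨k, hk, huk⟩ := P.exists_unique_mem_img hu fun e => hu0 (Subtype.ext e)
      exact ⟨⟨⟨k, hk⟩, ⟨⟨u, huk⟩, fun e => hu0 (Subtype.ext (congrArg (fun z : img (V := V) k => (z : V)) e))⟩⟩, rfl⟩
  have hcard := Nat.card_eq_of_bijective _ hbij
  have hpunct : ∀ (A : AddSubgroup V), Nat.card {v : A // v ≠ 0} = Nat.card A - 1 := fun A => by
    have h : {v : A | v ≠ 0} = ({0} : Set A)ᶜ := rfl
    rw [show Nat.card {v : A // v ≠ 0} = Nat.card ({v : A | v ≠ 0} : Set A) from rfl, h,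
      Nat.card_coe_set_eq, Set.ncard_compl, Set.ncard_singleton]
  rw [Nat.card_sigma, Finset.sum_congr rfl fun k _ =>
    (hpunct _).trans (by rw [P.card_img_of_mem k.2]), Finset.sum_const, Finset.card_univ,
    ← Nat.card_eq_fintype_card, smul_eq_mul, hpunct, P.card_U, ← hq] at hcard
  have hq1 : 1 < q := P.S.one_lt_card_img P.hr
  refine Nat.eq_of_mul_eq_mul_right (Nat.sub_pos_of_lt hq1) (hcard.trans ?_)
  obtain ⟨c, hc⟩ : ∃ c, q = c + 1 := ⟨q - 1, by omega⟩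
  rw [hc]
  simp only [Nat.add_sub_cancel]
  rw [show (c + 1) * (c + 1) = (c + 1 + 1) * c + 1 by ring, Nat.add_sub_cancel]

theorem card_rotGroup : Nat.card P.rotGroup = Nat.card (img (V := V) P.r) + 1 := by
  rw [← P.card_mem]
  exact Nat.card_congr
    { toFun := fun x => ⟨x.1 * P.r, P.mem_mul_of_rot x.2 P.mem_r⟩
      invFun := fun k => ⟨k.1 * P.r, P.not_mem_mul k.2 P.mem_r⟩
      left_inv := fun x => Subtype.ext (by simp [mul_assoc, P.S.mul_self P.hr])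
      right_inv := fun k => Subtype.ext (by simp [mul_assoc, P.S.mul_self P.hr]) }

lemma rot_or_mem (hx : P.F ≤ fix x) : P.Rot x ∨ P.Mem x :=
  (em (P.Mem x)).elim Or.inr fun h => Or.inl ⟨hx, h⟩

end Pair

end Cfsg.Agent.BinaryAffine
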