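import Cfsg.Agent.Lib.BinaryAffine.Pair
import Cfsg.Agent.Lib.Cores.Nilpotent

/-!
Every vector of the plane of a pair is a displacement of a maximal element of the pair, and two
elements of the pair sharing a fixed vector of the plane are equal.
-/

set_option autoImplicit false

namespace Cfsg.Agent.BinaryAffine

variable {G V : Type*} [Group G] [AddCommGroup V] [DistribMulAction G V]

namespace Setting

variable (S : Setting G V)
include S

lemma smul_img_two {r : G} (h2 : ∀ v : V, v + v = 0) (hr : IsMax V r) : img (V := V) r ≤ fix r :=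
  fun a ha => mem_fix.2 <| by rw [S.smul_img hr ha]; exact neg_eq_of_add_eq_zero_right (h2 a)

lemma smul_img_comm_two {r h : G} (h2 : ∀ v : V, v + v = 0) (hr : IsMax V r) (hc : Commute h r) :
    img (V := V) r ≤ fix h := fun a ha => by
  rw [mem_fix]
  rcases S.eq_or_neg hr hc ha with e | e
  · exact e
  · rw [e]; exact neg_eq_of_add_eq_zero_right (h2 a)

end Setting

namespace Pair

variable (P : Pair G V) {k k' : G}

lemma mem_conj (hk : P.Mem k) {x : G} (hx : P.F ≤ fix x) : P.Mem (x * k * x⁻¹) :=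
  ⟨isMax_conj hk.1 x, fun f hf => by
    have h : x • f ∈ fix (x * k * x⁻¹) := mem_fix_conj.2 (hk.2 hf)
    rwa [P.smul_F hx hf] at h⟩

lemma smul_conj_fix {x : G} {u : V} (hx : x • u = u) (hk : k • u = u) : (x * k * x⁻¹) • u = u := by
  rw [mul_smul, mul_smul, inv_smul_eq_iff.2 hx.symm, hk, hx]

lemma fix_eq_two (h2 : ∀ v : V, v + v = 0) (hk : P.Mem k) : img k ⊔ P.F = fix (V := V) k := by
  have := P.S.finite
  refine AddSubgroup.eq_of_le_of_card_ge (sup_le (P.S.smul_img_two h2 hk.1) hk.2) ?_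
  rw [card_sup_of_inf_eq_bot (P.img_inf_F hk), P.card_fix_of_mem hk, P.card_img_of_mem hk, mul_comm]

lemma mem_img_of_fixed_two (h2 : ∀ v : V, v + v = 0) (hk : P.Mem k) (hkU : img k ≤ P.U) {y : V}
    (hy : y ∈ P.U) (hky : k • y = y) : y ∈ img k := by
  obtain ⟨w, hw, f, hf, rfl⟩ := AddSubgroup.mem_sup.1 ((P.fix_eq_two h2 hk).ge (mem_fix.2 hky))
  have h : f ∈ P.U ⊓ P.F := ⟨by simpa using P.U.sub_mem hy (hkU hw), hf⟩
  rw [P.U_inf_F, AddSubgroup.mem_bot] at h
  rwa [h, add_zero]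

lemma share_odd (h2 : ∀ v : V, v + v = 0 → v = 0) (hk : P.Mem k) (hk' : P.Mem k') {u : V} (hu : u ∈ P.U)
    (hu0 : u ≠ 0) (h : k • u = u) (h' : k' • u = u) : k = k' :=
  by_contra fun hne => hu0 (h2 u ((P.share_aux hk hk' hu hu0 h h' hne).1 u))

lemma exists_root_odd (h2 : ∀ v : V, v + v = 0 → v = 0) {d : V} (hd : d ∈ P.U) (hd0 : d ≠ 0) :
    ∃ k : G, P.Mem k ∧ d ∈ img k ∧ ∃ u ∈ P.U, u ≠ 0 ∧ k • u = u := by
  obtain ⟨k, a, u, -, hu, hu0, hk1, hkF, hku, hka, -⟩ := P.exists_mover hd hd0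
  obtain ⟨r₁, hr₁, hle⟩ := P.S.exists_isMax hk1
  have hm : P.Mem r₁ := ⟨hr₁, hkF.trans hle⟩
  have hru : r₁ • u = u := mem_fix.1 (hle (mem_fix.2 hku))
  have hc : Commute k r₁ := mul_inv_eq_iff_eq_mul.1
    (P.share_odd h2 (P.mem_conj hm hkF) hm hu hu0 (smul_conj_fix hku hru) hru)
  have key : ∀ x : G, P.F ≤ fix x → x • u = u → ∀ b ∈ img (V := V) r₁, b ≠ 0 → x • b = b → x = 1 := by
    intro x hxF hxu b hb hb0 hxb
    by_contra hx
    obtain ⟨r₂, hr₂, hle₂⟩ := P.S.exists_isMax (V := V) hx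
    obtain rfl := P.share_odd h2 ⟨hr₂, hxF.trans hle₂⟩ hm hu hu0 (mem_fix.1 (hle₂ (mem_fix.2 hxu))) hru
    have h := mem_fix.1 (hle₂ (mem_fix.2 hxb))
    rw [P.S.smul_img hr₂ hb] at h
    exact hb0 (h2 b (neg_eq_iff_add_eq_zero.1 h))
  obtain ⟨b, hb, hb0⟩ : ∃ b ∈ img (V := V) r₁, b ≠ 0 := by
    by_contra h
    push Not at h
    exact P.S.img_ne_bot hr₁ ((AddSubgroup.eq_bot_iff_forall _).2 h)
  have hkr : k * r₁ = 1 := by
    refine key _ (fun f hf => mem_fix_mul (hkF hf) (hm.2 hf))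
      (mem_fix.1 (mem_fix_mul (mem_fix.2 hku) (mem_fix.2 hru))) b hb hb0 ?_
    rw [mul_smul, P.S.smul_img hr₁ hb, smul_neg]
    rcases P.S.eq_or_neg hr₁ hc hb with e | e
    · exact absurd (key k hkF hku b hb hb0 e) hk1
    · rw [e, neg_neg]
  have hk : k = r₁ := by rw [eq_inv_of_mul_eq_one_left hkr, P.S.inv_eq hr₁]
  exact ⟨r₁, hm, mem_img.2 ⟨a, hk ▸ hka⟩, u, hu, hu0, hru⟩

lemma exists_root_two (h2 : ∀ v : V, v + v = 0) {d : V} (hd : d ∈ P.U) (hd0 : d ≠ 0) :
    ∃ k : G, P.Mem k ∧ d ∈ img k ∧ ∃ u ∈ P.U, u ≠ 0 ∧ k • u = u := by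
  have := P.S.finiteG
  obtain ⟨k₀, a, u, -, hu, hu0, -, hkF₀, hku₀, hka₀, hkd₀⟩ := P.exists_mover hd hd0
  obtain ⟨i, o, ho, hio⟩ := Nat.exists_eq_two_pow_mul_odd (orderOf_pos k₀).ne'
  have hneg : ∀ v : V, -v = v := fun v => neg_eq_of_add_eq_zero_right (h2 v)
  have hpow : ∀ j : ℕ, k₀ ^ (2 * j) • a = a := fun j => by
    have h1 : k₀ ^ 2 • a = a := by rw [pow_two, mul_smul, hka₀, smul_add, hka₀, hkd₀]; abel
    induction j with
    | zero => simp
    | succ j ih => rw [mul_add, pow_add, mul_smul, mul_one, h1, ih]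
  obtain ⟨j, rfl⟩ := ho
  set k := k₀ ^ (2 * j + 1) with hk
  have hka : k • a = a + d := by
    rw [hk, pow_succ', mul_smul, hpow, hka₀]
  have hku : k • u = u := mem_fix.1 (mem_fix_pow (mem_fix.2 hku₀) _)
  have hkF : P.F ≤ fix k := fun f hf => mem_fix_pow (hkF₀ hf) _
  have hk1 : k ≠ 1 := fun e => hd0 (by rwa [e, one_smul, left_eq_add] at hka)
  have hko : k ^ (2 ^ i) = 1 := by
    rw [hk, ← pow_mul, mul_comm, ← hio, pow_orderOf_eq_one]
  obtain ⟨r₁, hr₁, hle⟩ := P.S.exists_isMax hk1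
  have hm : P.Mem r₁ := ⟨hr₁, hkF.trans hle⟩
  have hru : r₁ • u = u := mem_fix.1 (hle (mem_fix.2 hku))
  -- the group of elements fixing `fix r₁`
  let H : Subgroup G :=
    { carrier := {x | fix (V := V) r₁ ≤ fix x}
      one_mem' := by simp [fix_one]
      mul_mem' := fun hx hy c hc => mem_fix_mul (hx hc) (hy hc)
      inv_mem' := fun hx c hc => mem_fix_inv (hx hc) }
  have hH : IsPGroup 2 H := fun x => ⟨1, by
    by_cases hx : (x : G) = 1
    · exact Subtype.ext (by simp [hx])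
    · exact Subtype.ext (by simpa [pow_two] using P.S.mul_self (isMax_of_fix_le hr₁ hx x.2))⟩
  have hnorm : ∀ x : G, P.F ≤ fix x → x • u = u → ∀ y ∈ H, x * y * x⁻¹ ∈ H := by
    intro x hxF hxu y hy c hc
    have e : fix (V := V) (x * r₁ * x⁻¹) = fix r₁ := by
      by_cases h : x * r₁ * x⁻¹ = r₁
      · rw [h]
      · exact (P.share_aux (P.mem_conj hm hxF) hm hu hu0 (smul_conj_fix hxu hru) hru h).2
    rw [← e] at hc
    have h' := mem_fix_conj (g := r₁) (h := x) (v := x⁻¹ • c)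
    rw [smul_inv_smul] at h'
    have := (mem_fix_conj (h := x)).2 (hy (h'.1 hc))
    rwa [smul_inv_smul] at this
  have hK : IsPGroup 2 (Subgroup.zpowers k) := fun ⟨x, hx⟩ => ⟨i, by
    obtain ⟨n, rfl⟩ := Subgroup.mem_zpowers_iff.1 hx
    refine Subtype.ext ?_
    show (k ^ n) ^ (2 ^ i) = 1
    rw [← zpow_natCast, ← zpow_mul, mul_comm, zpow_mul, zpow_natCast, hko, one_zpow]⟩
  have hn : Subgroup.zpowers k ≤ Subgroup.normalizer (H : Set G) := by
    rw [Subgroup.zpowers_le, Subgroup.mem_normalizer_iff]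
    refine fun y => ⟨hnorm k hkF hku y, fun hy => ?_⟩
    have := hnorm k⁻¹ (fun f hf => mem_fix_inv (hkF hf)) (inv_smul_eq_iff.2 hku.symm) _ hy
    simpa [mul_assoc] using this
  set Q : Subgroup G := Subgroup.zpowers k ⊔ H
  have hQ : IsPGroup 2 Q := hK.to_sup_of_normal_right' hH hn
  have := hQ.isNilpotent
  have := (Subgroup.normal_subgroupOf_iff_le_normalizer (H := H) (K := Q) le_sup_right).2
    (sup_le hn Subgroup.le_normalizer)
  obtain ⟨⟨⟨y, hyQ⟩, hy⟩, hy1⟩ := Subgroup.ne_bot_iff_exists_ne_one.1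
    (Cores.inf_center_ne_bot (N := H.subgroupOf Q) (fun h => hr₁.1 (by
      have hmem : (⟨r₁, Subgroup.mem_sup_right (show r₁ ∈ H from le_refl (fix (V := V) r₁))⟩ : Q) ∈
          H.subgroupOf Q := show r₁ ∈ H from le_refl (fix (V := V) r₁)
      rw [h, Subgroup.mem_bot] at hmem
      exact congrArg Subtype.val hmem)))
  have hy1 : y ≠ 1 := fun e => hy1 (Subtype.ext (Subtype.ext e))
  have hyH : fix (V := V) r₁ ≤ fix y := hy.1
  have hyc : Commute k y :=
    congrArg Subtype.val (Subgroup.mem_center_iff.1 hy.2 ⟨k, Subgroup.mem_sup_left (Subgroup.mem_zpowers k)⟩)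
  have hym : P.Mem y := ⟨isMax_of_fix_le hr₁ hy1 hyH, hm.2.trans hyH⟩
  have hyk : fix (V := V) y ≤ fix k :=
    (P.fix_eq_two h2 hym).ge.trans (sup_le (P.S.smul_img_comm_two h2 hym.1 hyc) hkF)
  exact ⟨k, ⟨isMax_of_fix_le hym.1 hk1 hyk, hkF⟩, mem_img.2 ⟨a, hka⟩, u, hu, hu0, hku⟩

/-- Every vector of the plane is a displacement. -/
theorem exists_root {d : V} (hd : d ∈ P.U) (hd0 : d ≠ 0) :
    ∃ k : G, P.Mem k ∧ d ∈ img k ∧ ∃ u ∈ P.U, u ≠ 0 ∧ k • u = u :=
  P.S.char.elim (fun h => P.exists_root_two h hd hd0) fun h => P.exists_root_odd h hd hd0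

lemma r_pow (j : ℕ) : P.r * P.g ^ j * P.r = (P.g ^ j)⁻¹ := by
  have h1 : P.r * P.g * P.r⁻¹ = P.g⁻¹ := by
    rw [g, mul_inv_rev, P.S.inv_eq P.hr, P.S.inv_eq P.ht, ← mul_assoc P.r P.r, P.S.mul_self P.hr, one_mul]
  conv_lhs => arg 2; rw [← P.S.inv_eq P.hr]
  rw [← conj_pow, h1, inv_pow]

/-- In characteristic two a member with image in the plane exchanges the pair. -/
lemma exists_swap (h2 : ∀ v : V, v + v = 0) :
    ∃ u : G, P.Mem u ∧ img u ≤ P.U ∧ u * P.r * u⁻¹ = P.t := by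
  have := P.S.finiteG
  have hgpow : ∀ j : ℕ, P.F ≤ fix (P.g ^ j) := fun j f hf => mem_fix_pow (P.F_le_fix_g hf) j
  obtain ⟨l, hl⟩ : Odd (orderOf P.g) := by
    rcases Nat.even_or_odd (orderOf P.g) with ⟨m, hm⟩ | h
    · exfalso
      have hm0 : 0 < m := by have := orderOf_pos P.g; omega
      set z := P.g ^ m with hz
      have hz2 : z⁻¹ = z := inv_eq_of_mul_eq_one_left (by rw [hz, ← pow_add, ← hm, pow_orderOf_eq_one])
      have hcr : Commute z P.r := by
        have h := P.r_pow m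
        rw [← hz, hz2] at h
        show z * P.r = P.r * z
        conv_lhs => rw [← h, mul_assoc (P.r * z), P.S.mul_self P.hr, mul_one]
      have hcg : Commute z P.g := (Commute.refl P.g).pow_left m
      have ht : P.t = P.r * P.g := by rw [g, ← mul_assoc, P.S.mul_self P.hr, one_mul]
      have hct : Commute z P.t := ht ▸ hcr.mul_right hcg
      have htop : fix (V := V) z = ⊤ := eq_top_iff.2 (P.U_sup_F ▸ sup_le
        (sup_le (P.S.smul_img_comm_two h2 P.hr hcr) (P.S.smul_img_comm_two h2 P.ht hct)) (hgpow m))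
      have := Nat.le_of_dvd hm0 (orderOf_dvd_iff_pow_eq_one.2 (P.S.eq_one_of_fix_top htop))
      omega
    · exact h
  set x := l * (l + 1) with hx
  set u := P.g ^ x * P.r * (P.g ^ x)⁻¹ with hu
  have hu' : u = P.g ^ l * P.r := by
    have e : P.g ^ (x + x) = P.g ^ l := by
      rw [show x + x = l + orderOf P.g * l by rw [hl, hx]; ring, pow_add, pow_mul, pow_orderOf_eq_one,
        one_pow, mul_one]
    rw [hu, ← P.r_pow x, ← e, pow_add]
    calc P.g ^ x * P.r * (P.r * P.g ^ x * P.r) = P.g ^ x * (P.r * P.r) * P.g ^ x * P.r := by group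
      _ = _ := by rw [P.S.mul_self P.hr, mul_one]
  refine ⟨u, P.mem_conj P.mem_r (hgpow x), fun a ha => ?_, ?_⟩
  · have h := mem_img_conj (h := (P.g ^ x)⁻¹) ha
    rw [show (P.g ^ x)⁻¹ * u * (P.g ^ x)⁻¹⁻¹ = P.r by rw [hu]; group] at h
    have hpm : ∀ j : ℕ, ∀ v ∈ P.U, P.g ^ j • v ∈ P.U := fun j => by
      induction j with
      | zero => simp
      | succ j ih => exact fun v hv => by rw [pow_succ, mul_smul]; exact ih _ (P.smul_mem_U_g hv)
    have := hpm x _ (AddSubgroup.mem_sup_left h)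
    rwa [smul_inv_smul] at this
  · have ht : P.t = P.r * P.g := by rw [g, ← mul_assoc, P.S.mul_self P.hr, one_mul]
    have e : P.g ^ (l + l) = P.g⁻¹ := by
      refine eq_inv_of_mul_eq_one_left ?_
      rw [← pow_succ, show l + l + 1 = orderOf P.g by omega, pow_orderOf_eq_one]
    rw [hu', mul_inv_rev, ← P.r_pow l, P.S.inv_eq P.hr]
    calc P.g ^ l * P.r * P.r * (P.r * (P.r * P.g ^ l * P.r))
        = P.g ^ l * (P.r * P.r) * (P.r * P.r) * P.g ^ l * P.r := by group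
      _ = P.g ^ (l + l) * P.r := by rw [P.S.mul_self P.hr, mul_one, mul_one, pow_add]
      _ = P.t * P.r * P.r := by rw [e, g, mul_inv_rev, P.S.inv_eq P.hr, P.S.inv_eq P.ht]
      _ = _ := by rw [mul_assoc, P.S.mul_self P.hr, mul_one]

end Pair

lemma not_triangle (h2 : ∀ v : V, v + v = 0) (P₁ P₂ : Pair G V) (ht : P₂.t = P₁.t)
    (hne : P₁.r ≠ P₂.r) (hc : Commute P₁.r P₂.r) : False := by
  have S := P₁.S
  have := S.finite
  obtain ⟨u, hum, huU, hut⟩ := P₁.exists_swap h2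
  obtain ⟨u', hum', huU', hut'⟩ := P₂.exists_swap h2
  rw [ht] at hut'
  set W₁ := img (V := V) P₁.r with hW₁
  set W₂ := img (V := V) P₂.r with hW₂
  set Wt := img (V := V) P₁.t with hWt
  set q := Nat.card W₁ with hq
  have hq1 : 1 < q := S.one_lt_card_img P₁.hr
  have hW₂q : Nat.card W₂ = q := by
    rw [hW₂, ← P₂.card_img_t, ht, P₁.card_img_t]
  have hinf : W₁ ⊓ W₂ = ⊥ := eq_bot_iff.2 fun a ha => AddSubgroup.mem_bot.2 <| by_contra fun h =>
    hne (S.eq_of_img P₁.hr P₂.hr ha.1 ha.2 h)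
  set E := W₁ ⊔ W₂ with hE
  have hEcard : Nat.card E = q * q := by rw [hE, card_sup_of_inf_eq_bot hinf, hW₂q]
  have hE₁ : E ≤ fix P₁.r := sup_le (S.smul_img_two h2 P₁.hr) (S.smul_img_comm_two h2 P₂.hr hc)
  have hE₂ : E ≤ fix P₂.r := sup_le (S.smul_img_comm_two h2 P₁.hr hc.symm) (S.smul_img_two h2 P₂.hr)
  set N := E ⊓ fix P₁.t with hN
  have hNW₁ : W₁ ⊓ N = ⊥ := eq_bot_iff.2 fun a ha => AddSubgroup.mem_bot.2
    (S.eq_zero_of_not_commute P₁.hr P₁.hnc ha.1 (mem_fix.1 ha.2.2))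
  have hNW₂ : W₂ ⊓ N = ⊥ := eq_bot_iff.2 fun a ha => AddSubgroup.mem_bot.2
    (S.eq_zero_of_not_commute P₂.hr P₂.hnc ha.1 (ht ▸ mem_fix.1 ha.2.2))
  have hNq : q ≤ Nat.card N := by
    have h := card_le_inf_fix_mul E P₁.t
    rw [hEcard, P₁.card_img_t] at h
    exact Nat.le_of_mul_le_mul_right h (by omega)
  have hEN₁ : W₁ ⊔ N = E := AddSubgroup.eq_of_le_of_card_ge (sup_le le_sup_left inf_le_left) (by
    rw [hEcard, card_sup_of_inf_eq_bot hNW₁]; exact Nat.mul_le_mul_left _ hNq)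
  have hEN₂ : W₂ ⊔ N = E := AddSubgroup.eq_of_le_of_card_ge (sup_le le_sup_right inf_le_left) (by
    rw [hEcard, card_sup_of_inf_eq_bot hNW₂, hW₂q]; exact Nat.mul_le_mul_left _ hNq)
  have hN₁ : N ≤ P₁.F := fun n hn => ⟨hE₁ hn.1, hn.2⟩
  have hN₂ : N ≤ P₂.F := fun n hn => ⟨hE₂ hn.1, ht.symm ▸ hn.2⟩
  set h := u' * u with hh
  have hhW : ∀ a ∈ W₁, h • a ∈ W₂ := fun a ha => by
    have e1 := mem_img_conj (h := u) ha
    rw [hut] at e1
    have e2 := mem_img_conj (h := u') e1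
    rw [show u' * P₁.t * u'⁻¹ = P₂.r by
      rw [← hut', ← mul_assoc, ← mul_assoc, S.mul_self hum'.1, one_mul, mul_assoc, ← mul_inv_rev,
        S.mul_self hum'.1, inv_one, mul_one]] at e2
    rwa [hh, mul_smul]
  have hhN : ∀ n ∈ N, h • n = n := fun n hn => by
    rw [hh, mul_smul, mem_fix.1 (hum.2 (hN₁ hn)), mem_fix.1 (hum'.2 (hN₂ hn))]
  have hhE : ∀ e ∈ E, h • e ∈ E := fun e he => by
    rw [← hEN₁] at he
    obtain ⟨w, hw, n, hn, rfl⟩ := AddSubgroup.mem_sup.1 he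
    rw [smul_add, hhN n hn, ← hEN₂]
    exact AddSubgroup.add_mem_sup (hhW w hw) hn
  have huu' : u ≠ u' := fun e => hne (by
    rw [e] at hut
    exact mul_left_cancel (mul_right_cancel (hut.trans hut'.symm)))
  have hur : u ≠ P₁.r := fun e => P₁.ne (by rwa [e, mul_inv_cancel_right] at hut)
  by_cases hcu : Commute u' u
  · -- `h` is a translation by vectors of `N`
    have hfix : ∀ c ∈ img (V := V) u, h • c = c := fun c hc' => by
      rw [hh, mul_smul, mem_fix.1 (S.smul_img_two h2 hum.1 hc'), mem_fix.1 (S.smul_img_comm_two h2 hum.1 hcu hc')]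
    have hU₂ : img (V := V) u' ≤ img u ⊔ N := by
      intro x hx
      have hxU : x ∈ P₁.U ⊔ N := by
        have h1 := huU' hx
        rw [Pair.U, ht] at h1
        have hW₂U : img (V := V) P₂.r ≤ P₁.U ⊔ N := by
          rw [← hW₂]
          exact le_sup_right.trans (hEN₁.ge.trans (sup_le_sup_right le_sup_left _))
        exact (sup_le hW₂U (le_sup_of_le_left le_sup_right) : img (V := V) P₂.r ⊔ img P₁.t ≤ P₁.U ⊔ N) h1
      obtain ⟨y, hy, n, hn, rfl⟩ := AddSubgroup.mem_sup.1 hxU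
      have hux := mem_fix.1 (S.smul_img_comm_two h2 hum'.1 hcu.symm hx)
      rw [smul_add, mem_fix.1 (hum.2 (hN₁ hn)), add_left_inj] at hux
      exact AddSubgroup.add_mem_sup (P₁.mem_img_of_fixed_two h2 hum huU hy hux) hn
    obtain ⟨a, ha, ha0⟩ : ∃ a ∈ W₁, a ≠ 0 := by
      by_contra hcon
      push Not at hcon
      exact S.img_ne_bot P₁.hr ((AddSubgroup.eq_bot_iff_forall _).2 hcon)
    set d := h • a - a with hd
    have hd0 : d ≠ 0 := sub_ne_zero.2 fun e => hne (S.eq_of_img P₁.hr P₂.hr ha (e ▸ hhW a ha) ha0)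
    have haE : a ∈ E := AddSubgroup.mem_sup_left ha
    have hhaE := hhE a haE
    have hga : h • a = a + d := by rw [hd]; abel
    have hga' : (P₁.r * h * P₁.r⁻¹) • a = a + d := by
      rw [mul_smul, mul_smul, inv_smul_eq_iff.2 (mem_fix.1 (hE₁ haE)).symm, mem_fix.1 (hE₁ hhaE), hga]
    obtain ⟨k, hk⟩ := S.fam d
    have hkfix : ∀ (x : G) (c : V), x • a = a + d → x • c = c → k • c = c := by
      intro x c hxa hxc
      have h1 := hk x (a + c) (by rw [smul_add, hxa, hxc]; abel)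
      rw [smul_add, hk x a hxa] at h1
      exact add_left_cancel (a := a + d) (h1.trans (by abel))
    have hkW : ∀ c ∈ img (V := V) u, k • mv P₁.r c = mv P₁.r c := fun c hc' => by
      have h1 := hkfix h c hga (hfix c hc')
      have h3 := hkfix (P₁.r * h * P₁.r⁻¹) (P₁.r • c) hga'
        (by rw [mul_smul, mul_smul, inv_smul_smul, hfix c hc'])
      rw [mv_apply, smul_sub, h1, h3]
    have hinj : Function.Injective (fun c : img (V := V) u => (⟨mv P₁.r c, c, rfl⟩ : W₁)) := by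
      intro c c' hcc
      have e : mv P₁.r (c : V) = mv P₁.r (c' : V) := congrArg Subtype.val hcc
      rw [← sub_eq_zero, ← map_sub, mv_apply, sub_eq_zero] at e
      have h1 : (c : V) - c' ∈ img u := (img u).sub_mem c.2 c'.2
      have h2' := P₁.mem_img_of_fixed_two h2 P₁.mem_r le_sup_left (huU h1) e
      exact Subtype.ext (sub_eq_zero.1 (by_contra fun hz => hur (S.eq_of_img hum.1 P₁.hr h1 h2' hz)))
    obtain ⟨c, hc'⟩ := ((Nat.bijective_iff_injective_and_card _).2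
      ⟨hinj, P₁.card_img_of_mem hum⟩).2 ⟨a, ha⟩
    have hka := hkW c c.2
    rw [show mv P₁.r (c : V) = a from congrArg Subtype.val hc', hk h a hga, add_eq_left] at hka
    exact hd0 hka
  · let Q : Pair G V := ⟨S, u', u, hum'.1, hum.1, hcu⟩
    have hQ : Q.U ≤ (Wt ⊔ E) := by
      refine sup_le ((huU').trans ?_) (huU.trans ?_)
      · rw [Pair.U, ht]
        exact sup_le (le_sup_of_le_right le_sup_right) le_sup_left
      · exact sup_le (le_sup_of_le_right le_sup_left) le_sup_left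
    have hne' : Q.U ⊓ E ≠ ⊥ := fun hbot => by
      have h1 : Nat.card ↥(Q.U ⊔ E) ≤ Nat.card ↥(Wt ⊔ E) :=
        AddSubgroup.card_le_of_le (sup_le hQ le_sup_right)
      have hQr : Nat.card (img (V := V) Q.r) = q := by
        rw [P₂.card_img_of_mem hum', ← hW₂, hW₂q]
      have hWtE : Wt ⊓ E = ⊥ := eq_bot_iff.2 fun a ha => AddSubgroup.mem_bot.2
        (S.eq_zero_of_not_commute P₁.ht (fun e => P₁.hnc e.symm) ha.1 (mem_fix.1 (hE₁ ha.2)))
      rw [card_sup_of_inf_eq_bot hbot, card_sup_of_inf_eq_bot hWtE, Q.card_U, hQr, hWt, P₁.card_img_t,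
        hEcard, ← hW₁, ← hq] at h1
      exact absurd (Nat.le_of_mul_le_mul_right h1 (by positivity)) (not_le.2 (lt_mul_of_one_lt_left (by omega) hq1))
    obtain ⟨⟨a, haU, haE⟩, ha0⟩ := AddSubgroup.ne_bot_iff_exists_ne_zero.1 hne'
    replace ha0 : a ≠ 0 := fun e => ha0 (Subtype.ext e)
    have hga : Q.g • a = h • a := rfl
    set d := h • a - a with hd
    have hdU : d ∈ Q.U := Q.U.sub_mem (hga ▸ Q.smul_mem_U_g haU) haU
    have hdE : d ∈ E := E.sub_mem (hhE a haE) haE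
    have hd0 : d ≠ 0 := fun e => ha0 (Q.eq_zero_of_smul_g haU (hga.trans (sub_eq_zero.1 e)))
    obtain ⟨k, hkm, hdk, -⟩ := Q.exists_root hdU hd0
    have hkE : E ≤ fix k := sup_le
      (S.smul_img_comm_two h2 P₁.hr (S.commute_of_fix hkm.1 hdk hd0 (mem_fix.1 (hE₁ hdE))).symm)
      (S.smul_img_comm_two h2 P₂.hr (S.commute_of_fix hkm.1 hdk hd0 (mem_fix.1 (hE₂ hdE))).symm)
    have hka := S.move_eq hkm.1 hdk hd0 (g := h) (a := a) (by rw [hd]; abel)
    rw [mem_fix.1 (hkE haE), left_eq_add] at hka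
    exact hd0 hka

/-- Two elements of a pair with a common fixed vector in the plane are equal. -/
theorem Pair.share (P : Pair G V) {k k' : G} (hk : P.Mem k) (hk' : P.Mem k') {u : V} (hu : u ∈ P.U)
    (hu0 : u ≠ 0) (h : k • u = u) (h' : k' • u = u) : k = k' := by
  by_contra hne
  obtain ⟨h2, hfix⟩ := P.share_aux hk hk' hu hu0 h h' hne
  have key : ∀ x : G, IsMax V x → ¬ Commute k x → False := fun x hx hnc => by
    have hnc' : ¬ Commute k' x := fun hc => by
      obtain ⟨⟨a, ha⟩, ha0⟩ := AddSubgroup.ne_bot_iff_exists_ne_zero.1 (P.S.img_ne_bot hx)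
      have := mem_fix.1 (hfix.ge (P.S.smul_img_comm_two h2 hx hc ha))
      exact ha0 (Subtype.ext (P.S.eq_zero_of_not_commute hx (fun e => hnc e.symm) ha this))
    exact not_triangle h2 ⟨P.S, k, x, hk.1, hx, hnc⟩ ⟨P.S, k', x, hk'.1, hx, hnc'⟩ rfl hne
      (P.commute_of_share hk hk' hu hu0 h h')
  rcases P.not_commute_left_or_right hk with hnc | hnc
  exacts [key _ P.hr hnc, key _ P.ht hnc]

end Cfsg.Agent.BinaryAffine
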