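import Cfsg.Agent.Lib.BinaryAffine.Plane

/-!
In odd characteristic no plane extends to a three dimensional space generated by reflections:
the commuting relation would be a polarity of a projective plane without absolute points.
-/

set_option autoImplicit false

namespace Cfsg.Agent.BinaryAffine

variable {G V : Type*} [Group G] [AddCommGroup V] [DistribMulAction G V]

namespace Pair

variable (P : Pair G V)

lemma mem_of_img_le {r : G} (hr : IsMax V r) (h : img (V := V) r ≤ P.U) : P.Mem r := by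
  obtain ⟨⟨d, hd⟩, hd0⟩ := AddSubgroup.ne_bot_iff_exists_ne_zero.1 (P.S.img_ne_bot hr)
  have hd0 : d ≠ 0 := fun e => hd0 (Subtype.ext e)
  obtain ⟨k, hk, hdk, -⟩ := P.exists_root (h hd) hd0
  rwa [P.S.eq_of_img hr hk.1 hd hdk hd0]

lemma mem_of_mem_img {r : G} (hr : IsMax V r) {d : V} (hd : d ∈ img r) (hdU : d ∈ P.U) (hd0 : d ≠ 0) :
    P.Mem r := by
  obtain ⟨k, hk, hdk, -⟩ := P.exists_root hdU hd0
  rwa [P.S.eq_of_img hr hk.1 hd hdk hd0]

lemma img_sup_eq_U {k k' : G} (hk : P.Mem k) (hk' : P.Mem k') (hne : k ≠ k') :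
    img (V := V) k ⊔ img k' = P.U := by
  have := P.S.finite
  have hinf : img (V := V) k ⊓ img k' = ⊥ := eq_bot_iff.2 fun x hx => AddSubgroup.mem_bot.2 <|
    by_contra fun h => hne (P.S.eq_of_img hk.1 hk'.1 hx.1 hx.2 h)
  refine AddSubgroup.eq_of_le_of_card_ge (sup_le (P.img_le_U hk) (P.img_le_U hk')) ?_
  rw [card_sup_of_inf_eq_bot hinf, P.card_U, P.card_img_of_mem hk, P.card_img_of_mem hk']

lemma exists_mem_ne_ne (h3 : 2 < Nat.card (img (V := V) P.r)) (x y : G) :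
    ∃ b₁ b₂ : G, P.Mem b₁ ∧ P.Mem b₂ ∧ b₁ ≠ b₂ ∧ b₁ ≠ x ∧ b₁ ≠ y ∧ b₂ ≠ x ∧ b₂ ≠ y := by
  have := P.S.finiteG
  classical
  have : Fintype G := Fintype.ofFinite G
  have hc := P.card_mem
  rw [Nat.card_eq_fintype_card, Fintype.card_subtype] at hc
  have h2 : 1 < ((Finset.univ.filter fun k => P.Mem k) \ {x, y}).card := by
    have h1 := Finset.le_card_sdiff {x, y} (Finset.univ.filter fun k => P.Mem k)
    have h4 : ({x, y} : Finset G).card ≤ 2 := Finset.card_le_two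
    rw [hc] at h1
    omega
  obtain ⟨b₁, hb₁, b₂, hb₂, hne⟩ := Finset.one_lt_card.1 h2
  simp only [Finset.mem_sdiff, Finset.mem_filter, Finset.mem_univ, true_and, Finset.mem_insert,
    Finset.mem_singleton, not_or] at hb₁ hb₂
  exact ⟨b₁, b₂, hb₁.1, hb₂.1, hne, hb₁.2.1, hb₁.2.2, hb₂.2.1, hb₂.2.2⟩

end Pair

namespace Setting

variable (S : Setting G V)
include S

lemma img_inf_fix_odd (h2 : ∀ v : V, v + v = 0 → v = 0) {r : G} (hr : IsMax V r) :
    img (V := V) r ⊓ fix r = ⊥ :=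
  eq_bot_iff.2 fun a ha => AddSubgroup.mem_bot.2 <| h2 a <| by
    have h := S.smul_img hr ha.1
    rw [mem_fix.1 ha.2] at h
    exact eq_neg_iff_add_eq_zero.1 h

end Setting

/-- A vector lying in a plane spanned by two displacement spaces inside `Z` is a displacement in `Z`. -/
lemma exists_root_of_pair (Q : Pair G V) {Z : AddSubgroup V} (hQ : Q.U ≤ Z) {z : V} (hz : z ∈ Q.U)
    (hz0 : z ≠ 0) : ∃ j : G, IsMax V j ∧ img j ≤ Z ∧ z ∈ img j ∧
      Nat.card (img (V := V) j) = Nat.card (img (V := V) Q.r) := by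
  obtain ⟨j, hj, hzj, -⟩ := Q.exists_root hz hz0
  exact ⟨j, hj.1, (Q.img_le_U hj).trans hQ, hzj, Q.card_img_of_mem hj⟩

namespace Pair

variable (P : Pair G V)

lemma cover (h2 : ∀ v : V, v + v = 0 → v = 0) {r : G} (hr : IsMax V r) (hnc : ¬ Commute P.r r)
    (hU : ¬ img (V := V) r ≤ P.U) {z : V} (hz : z ∈ P.U ⊔ img r) (hz0 : z ≠ 0) :
    ∃ j : G, IsMax V j ∧ img j ≤ P.U ⊔ img r ∧ z ∈ img j ∧
      Nat.card (img (V := V) j) = Nat.card (img (V := V) P.r) := by
  have S := P.S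
  have := S.finite
  set q := Nat.card (img (V := V) P.r) with hq
  have hq1 : 1 < q := S.one_lt_card_img P.hr
  have hq3 : 2 < q := by
    by_contra hle
    obtain ⟨⟨v, hv⟩, hv0⟩ := AddSubgroup.ne_bot_iff_exists_ne_zero.1 (S.img_ne_bot P.hr)
    have h := card_nsmul_eq_zero' (G := img (V := V) P.r) (x := ⟨v, hv⟩)
    rw [← hq, show q = 2 by omega, two_nsmul] at h
    exact hv0 (Subtype.ext (h2 v (congrArg Subtype.val h)))
  let T : Pair G V := ⟨S, P.r, r, P.hr, hr, hnc⟩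
  have hrq : Nat.card (img (V := V) r) = q := T.card_img_t
  set Z := P.U ⊔ img r with hZ
  have hTZ : T.U ≤ Z := sup_le (le_sup_of_le_left le_sup_left) le_sup_right
  have hdis : P.U ⊓ img r = ⊥ := eq_bot_iff.2 fun d hd => AddSubgroup.mem_bot.2 <| by_contra fun h =>
    hU (P.img_le_U (P.mem_of_mem_img hr hd.2 hd.1 h))
  obtain ⟨u, hu, w, hw, rfl⟩ := AddSubgroup.mem_sup.1 hz
  rcases eq_or_ne u 0 with rfl | hu0
  · exact ⟨r, hr, le_sup_right, by rwa [zero_add], hrq⟩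
  obtain ⟨k, hk, huk, -⟩ := P.exists_root hu hu0
  have hkq := P.card_img_of_mem hk
  rcases eq_or_ne w 0 with rfl | hw0
  · exact ⟨k, hk.1, (P.img_le_U hk).trans le_sup_left, by rwa [add_zero], hkq⟩
  have hkr : k ≠ r := fun e => hU (e ▸ P.img_le_U hk)
  by_cases hc : Commute k r
  swap
  · let Q : Pair G V := ⟨S, k, r, hk.1, hr, hc⟩
    obtain ⟨j, h1, h3, h4, h5⟩ := exists_root_of_pair Q
      (Z := Z) (sup_le ((P.img_le_U hk).trans le_sup_left) le_sup_right)
      (AddSubgroup.add_mem_sup huk hw : u + w ∈ Q.U) hz0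
    exact ⟨j, h1, h3, h4, h5.trans hkq⟩
  obtain ⟨a, -, ha, -, -, hak, har, -, -⟩ := P.exists_mem_ne_ne hq3 k P.r
  have hanc : ¬ Commute a r := fun h => by
    have har' : a ≠ r := fun e => hU (e ▸ P.img_le_U ha)
    have hL : P.U ≤ fix r := (P.img_sup_eq_U ha hk hak).ge.trans
      (sup_le (S.img_le_fix hr ha.1 h.symm har'.symm) (S.img_le_fix hr hk.1 hc.symm hkr.symm))
    obtain ⟨⟨v, hv⟩, hv0⟩ := AddSubgroup.ne_bot_iff_exists_ne_zero.1 (S.img_ne_bot P.hr)
    exact hnc (S.commute_of_fix P.hr hv (fun e => hv0 (Subtype.ext e))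
      (mem_fix.1 (hL (AddSubgroup.mem_sup_left hv)))).symm
  obtain ⟨b₁, b₂, hb₁, hb₂, hb12, hb1x, hb1r, hb2x, hb2r⟩ := T.exists_mem_ne_ne hq3 P.r r
  have hTU : T.U ⊓ P.U = img P.r := by
    refine le_antisymm (fun v hv => ?_) (le_inf le_sup_left le_sup_left)
    obtain ⟨c, hc', e, he, rfl⟩ := AddSubgroup.mem_sup.1 hv.1
    have he0 : e ∈ P.U ⊓ img r := ⟨by simpa using P.U.sub_mem hv.2 (AddSubgroup.mem_sup_left hc'), he⟩
    rw [hdis, AddSubgroup.mem_bot] at he0
    rwa [he0, add_zero]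
  have ne_of_T : ∀ {b : G}, T.Mem b → b ≠ P.r → a ≠ b := by
    rintro b hb hbx rfl
    obtain ⟨⟨v, hv⟩, hv0⟩ := AddSubgroup.ne_bot_iff_exists_ne_zero.1 (S.img_ne_bot ha.1)
    have h1 : v ∈ img (V := V) P.r := hTU ▸ ⟨T.img_le_U hb hv, P.img_le_U ha hv⟩
    exact hbx (S.eq_of_img ha.1 P.hr hv h1 fun e => hv0 (Subtype.ext e))
  obtain ⟨b, hb, hbx, hbr, hab⟩ : ∃ b, T.Mem b ∧ b ≠ P.r ∧ b ≠ r ∧ ¬ Commute a b := by
    by_cases h1 : Commute a b₁
    · refine ⟨b₂, hb₂, hb2x, hb2r, fun h2' => hanc ?_⟩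
      have hle : T.U ≤ fix a := (T.img_sup_eq_U hb₁ hb₂ hb12).ge.trans
        (sup_le (S.img_le_fix ha.1 hb₁.1 h1 (ne_of_T hb₁ hb1x))
          (S.img_le_fix ha.1 hb₂.1 h2' (ne_of_T hb₂ hb2x)))
      exact S.commute_of_fix hr hw hw0 (mem_fix.1 (hle (AddSubgroup.mem_sup_right hw)))
    · exact ⟨b₁, hb₁, hb1x, hb1r, h1⟩
  let Q : Pair G V := ⟨S, a, b, ha.1, hb.1, hab⟩
  have hQq : Nat.card (img (V := V) Q.r) = q := P.card_img_of_mem ha
  have hQZ : Q.U ≤ Z := sup_le ((P.img_le_U ha).trans le_sup_left) ((T.img_le_U hb).trans hTZ)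
  set E := img (V := V) k ⊔ img r with hE
  have hEinf : img (V := V) k ⊓ img r = ⊥ :=
    eq_bot_iff.2 ((inf_le_inf_right _ (P.img_le_U hk)).trans hdis.le)
  have hne : Q.U ⊓ E ≠ ⊥ := fun hbot => by
    have h1 : Nat.card ↥(Q.U ⊔ E) ≤ Nat.card Z :=
      AddSubgroup.card_le_of_le (sup_le hQZ (sup_le ((P.img_le_U hk).trans le_sup_left) le_sup_right))
    rw [card_sup_of_inf_eq_bot hbot, hE, card_sup_of_inf_eq_bot hEinf, hZ, card_sup_of_inf_eq_bot hdis,
      Q.card_U, hQq, P.card_U, hkq, hrq, ← hq] at h1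
    have := Nat.le_of_mul_le_mul_left h1 (by positivity)
    nlinarith
  obtain ⟨⟨y, hyQ, hyE⟩, hy0⟩ := AddSubgroup.ne_bot_iff_exists_ne_zero.1 hne
  have hy0 : y ≠ 0 := fun e => hy0 (Subtype.ext e)
  obtain ⟨j, hj, hyj, -⟩ := Q.exists_root hyQ hy0
  have hjZ : img (V := V) j ≤ Z := (Q.img_le_U hj).trans hQZ
  obtain ⟨u', hu', w', hw', hy⟩ := AddSubgroup.mem_sup.1 hyE
  have hjk : j ≠ k := fun e => hbx (by
    subst e
    have h1 : Q.U = P.U := by
      rw [← P.img_sup_eq_U ha hk hak, ← Q.img_sup_eq_U Q.mem_r hj hak]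
    obtain ⟨⟨v, hv⟩, hv0⟩ := AddSubgroup.ne_bot_iff_exists_ne_zero.1 (S.img_ne_bot hb.1)
    have h3 : v ∈ img (V := V) P.r :=
      hTU ▸ ⟨T.img_le_U hb hv, h1 ▸ (AddSubgroup.mem_sup_right hv : v ∈ Q.U)⟩
    exact S.eq_of_img hb.1 P.hr hv h3 fun e => hv0 (Subtype.ext e))
  have hjr : j ≠ r := fun e => har (by
    subst e
    have h1 : Q.U = T.U := by
      rw [← T.img_sup_eq_U hb T.mem_t hbr, ← Q.img_sup_eq_U Q.mem_t hj hbr]
    obtain ⟨⟨v, hv⟩, hv0⟩ := AddSubgroup.ne_bot_iff_exists_ne_zero.1 (S.img_ne_bot ha.1)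
    have h3 : v ∈ img (V := V) P.r :=
      hTU ▸ ⟨h1 ▸ (AddSubgroup.mem_sup_left hv : v ∈ Q.U), P.img_le_U ha hv⟩
    exact S.eq_of_img ha.1 P.hr hv h3 fun e => hv0 (Subtype.ext e))
  have hu'0 : u' ≠ 0 := fun e => hjr (S.eq_of_img hj.1 hr hyj (by rwa [← hy, e, zero_add]) hy0)
  have hw'0 : w' ≠ 0 := fun e => hjk (S.eq_of_img hj.1 hk.1 hyj (by rwa [← hy, e, add_zero]) hy0)
  have fin : ∀ R : Pair G V, R.r = j → (R.t = k ∨ R.t = r) → ∃ i : G, IsMax V i ∧ img i ≤ Z ∧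
      u + w ∈ img i ∧ Nat.card (img (V := V) i) = q := by
    intro R hRr hRt
    have hRZ : R.U ≤ Z := sup_le (hRr.symm ▸ hjZ) (by
      rcases hRt with e | e <;> rw [e]
      exacts [(P.img_le_U hk).trans le_sup_left, le_sup_right])
    have hyR : y ∈ R.U := AddSubgroup.mem_sup_left (hRr.symm ▸ hyj)
    have hboth : u' ∈ R.U ∧ w' ∈ R.U := by
      rcases hRt with e | e
      · have h : u' ∈ R.U := AddSubgroup.mem_sup_right (e.symm ▸ hu')
        exact ⟨h, by simpa [← hy] using R.U.sub_mem hyR h⟩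
      · have h : w' ∈ R.U := AddSubgroup.mem_sup_right (e.symm ▸ hw')
        exact ⟨by simpa [← hy] using R.U.sub_mem hyR h, h⟩
    have hER : E ≤ R.U := sup_le (R.img_le_U (R.mem_of_mem_img hk.1 hu' hboth.1 hu'0))
      (R.img_le_U (R.mem_of_mem_img hr hw' hboth.2 hw'0))
    obtain ⟨i, h1, h3, h4, h5⟩ := exists_root_of_pair R hRZ (hER (AddSubgroup.add_mem_sup huk hw)) hz0
    refine ⟨i, h1, h3, h4, h5.trans ?_⟩
    rw [hRr, Q.card_img_of_mem hj, hQq]
  by_cases hjkc : Commute j k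
  · refine fin ⟨S, j, r, hj.1, hr, fun h => ?_⟩ rfl (Or.inr rfl)
    have e1 := mem_fix.1 (S.img_le_fix hk.1 hj.1 hjkc.symm hjk.symm hyj)
    rw [← hy, smul_add, S.smul_img hk.1 hu',
      mem_fix.1 (S.img_le_fix hk.1 hr hc hkr hw'), add_left_inj, neg_eq_iff_add_eq_zero] at e1
    exact hu'0 (h2 _ e1)
  · exact fin ⟨S, j, k, hj.1, hk.1, hjkc⟩ rfl (Or.inl rfl)

end Pair

lemma card_roots_le (S : Setting G V) {q : ℕ} (Z D : AddSubgroup V) (R : G → Prop)
    (hR : ∀ j, R j → IsMax V j ∧ Nat.card (img (V := V) j) = q)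
    (hcov : ∀ z ∈ D, z ≠ 0 → ∃ j, R j ∧ img j ≤ D ∧ z ∈ img j) :
    Nat.card {j : G // R j ∧ img (V := V) j ≤ D} * (q - 1) + 1 = Nat.card D := by
  classical
  have := S.finite
  have := S.finiteG
  have := Fintype.ofFinite {j : G // R j ∧ img (V := V) j ≤ D}
  have hbij : Function.Bijective (fun x : (Σ k : {j : G // R j ∧ img (V := V) j ≤ D},
      {v : img (V := V) k.1 // v ≠ 0}) =>
      (⟨⟨(x.2.1 : V), x.1.2.2 x.2.1.2⟩, fun e => x.2.2 (Subtype.ext (congrArg (fun z : D => (z : V)) e))⟩ :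
        {u : D // u ≠ 0})) := by
    constructor
    · rintro ⟨⟨k, hk⟩, ⟨⟨v, hv⟩, hv0⟩⟩ ⟨⟨k', hk'⟩, ⟨⟨v', hv'⟩, hv'0⟩⟩ h
      have e : v = v' := congrArg (fun z : {u : D // u ≠ 0} => ((z : D) : V)) h
      subst e
      obtain rfl := S.eq_of_img (hR _ hk.1).1 (hR _ hk'.1).1 hv hv' fun e => hv0 (Subtype.ext e)
      rfl
    · rintro ⟨⟨u, hu⟩, hu0⟩
      obtain ⟨k, hk, hkD, huk⟩ := hcov u hu fun e => hu0 (Subtype.ext e)
      exact ⟨⟨⟨k, hk, hkD⟩, ⟨⟨u, huk⟩, fun e => hu0 (Subtype.ext (congrArg (fun z : img (V := V) k => (z : V)) e))⟩⟩, rfl⟩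
  have hcard := Nat.card_eq_of_bijective _ hbij
  have hpunct : ∀ (A : AddSubgroup V), Nat.card {v : A // v ≠ 0} = Nat.card A - 1 := fun A => by
    have h : {v : A | v ≠ 0} = ({0} : Set A)ᶜ := rfl
    rw [show Nat.card {v : A // v ≠ 0} = Nat.card ({v : A | v ≠ 0} : Set A) from rfl, h,
      Nat.card_coe_set_eq, Set.ncard_compl, Set.ncard_singleton]
  rw [Nat.card_sigma, Finset.sum_congr rfl fun k _ =>
    (hpunct _).trans (by rw [(hR _ k.2.1).2]), Finset.sum_const, Finset.card_univ,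
    ← Nat.card_eq_fintype_card, smul_eq_mul, hpunct] at hcard
  have : 0 < Nat.card D := Nat.card_pos
  omega

/-- In odd characteristic a reflection not commuting with one of the pair acts in its plane. -/
theorem Pair.img_le_U_odd (P : Pair G V) (p : ℕ) [hp : Fact p.Prime] (hpV : ∀ v : V, p • v = 0)
    (h2 : ∀ v : V, v + v = 0 → v = 0) {r : G} (hr : IsMax V r) (hnc : ¬ Commute P.r r) :
    img (V := V) r ≤ P.U := by
  classical
  by_contra hU
  have S := P.S
  have := S.finite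
  have := S.finiteG
  set q := Nat.card (img (V := V) P.r) with hq
  have hq1 : 1 < q := S.one_lt_card_img P.hr
  let T : Pair G V := ⟨S, P.r, r, P.hr, hr, hnc⟩
  have hrq : Nat.card (img (V := V) r) = q := T.card_img_t
  have hdis : P.U ⊓ img r = ⊥ := eq_bot_iff.2 fun d hd => AddSubgroup.mem_bot.2 <| by_contra fun h =>
    hU (P.img_le_U (P.mem_of_mem_img hr hd.2 hd.1 h))
  set Z := P.U ⊔ img r with hZ
  have hZcard : Nat.card Z = q * q * q := by
    rw [hZ, card_sup_of_inf_eq_bot hdis, P.card_U, hrq]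
  let R : G → Prop := fun j => IsMax V j ∧ img (V := V) j ≤ Z ∧ Nat.card (img (V := V) j) = q
  have hR : ∀ j, R j → IsMax V j ∧ Nat.card (img (V := V) j) = q := fun j h => ⟨h.1, h.2.2⟩
  have hcov : ∀ z ∈ Z, z ≠ 0 → ∃ j, R j ∧ img j ≤ Z ∧ z ∈ img j := by
    intro z hz hz0
    obtain ⟨j, h1, h3, h4, h5⟩ := P.cover h2 hr hnc hU hz hz0
    exact ⟨j, ⟨h1, h3, h5⟩, h3, h4⟩
  let D : G → AddSubgroup V := fun j => fix j ⊓ Z
  have hDcard : ∀ i, R i → Nat.card (D i) = q * q := by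
    intro i hi
    refine le_antisymm ?_ ?_
    · have hd : img i ⊓ D i = ⊥ :=
        eq_bot_iff.2 ((inf_le_inf_left _ inf_le_left).trans (S.img_inf_fix_odd h2 hi.1).le)
      have h := AddSubgroup.card_le_of_le (sup_le hi.2.1 (inf_le_right : D i ≤ Z))
      rw [card_sup_of_inf_eq_bot hd, hi.2.2, hZcard, mul_assoc] at h
      exact Nat.le_of_mul_le_mul_left h (by omega)
    · have h := card_le_inf_fix_mul Z i
      rw [hZcard, hi.2.2, inf_comm] at h
      exact Nat.le_of_mul_le_mul_right h (by omega)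
  have hDi : ∀ i j, R i → R j → ∀ z ∈ D i, z ≠ 0 → z ∈ img j → i ≠ j ∧ Commute i j ∧ img j ≤ D i := by
    intro i j hi hj z hz hz0 hzj
    have hne : i ≠ j := fun e => hz0 (by
      have : z ∈ img i ⊓ fix i := ⟨e ▸ hzj, hz.1⟩
      rwa [S.img_inf_fix_odd h2 hi.1, AddSubgroup.mem_bot] at this)
    have hc : Commute i j := S.commute_of_fix hj.1 hzj hz0 (mem_fix.1 hz.1)
    exact ⟨hne, hc, le_inf (S.img_le_fix hi.1 hj.1 hc hne) hj.2.1⟩
  have hdiag : ∀ i, R i → ¬ img (V := V) i ≤ D i := fun i hi h => S.img_ne_bot hi.1 <|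
    eq_bot_iff.2 ((le_inf le_rfl (h.trans inf_le_left)).trans (S.img_inf_fix_odd h2 hi.1).le)
  have hsymm : ∀ i j, R i → R j → img (V := V) j ≤ D i → img (V := V) i ≤ D j := by
    intro i j hi hj h
    obtain ⟨⟨z, hz⟩, hz0⟩ := AddSubgroup.ne_bot_iff_exists_ne_zero.1 (S.img_ne_bot hj.1)
    obtain ⟨hne, hc, -⟩ := hDi i j hi hj z (h hz) (fun e => hz0 (Subtype.ext e)) hz
    exact le_inf (S.img_le_fix hj.1 hi.1 hc.symm hne.symm) hi.2.1
  -- the polarity
  let I := {j : G // R j}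
  have : Fintype I := Fintype.ofFinite I
  let A : Matrix I I (ZMod p) := fun i j => if img (V := V) j.1 ≤ D i.1 then 1 else 0
  let J : Matrix I I (ZMod p) := Matrix.of fun _ _ => 1
  have hq0 : (q : ZMod p) = 0 := by
    rw [ZMod.natCast_eq_zero_iff]
    have : Nontrivial (img (V := V) P.r) := Finite.one_lt_card_iff_nontrivial.1 hq1
    obtain ⟨v, hv⟩ := exists_ne (0 : img (V := V) P.r)
    have ho : addOrderOf v = p := addOrderOf_eq_prime (Subtype.ext (hpV v)) hv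
    rw [hq, ← ho]
    exact addOrderOf_dvd_natCard v
  have hcount : ∀ i, R i → (Nat.card {j : G // R j ∧ img (V := V) j ≤ D i} : ZMod p) = 1 := by
    intro i hi
    have h := card_roots_le S Z (D i) R hR (fun z hz hz0 => by
      obtain ⟨j, hj, -, hzj⟩ := hcov z hz.2 hz0
      exact ⟨j, hj, (hDi i j hi hj z hz hz0 hzj).2.2, hzj⟩)
    rw [hDcard i hi] at h
    have h' := congrArg (Nat.cast : ℕ → ZMod p) h
    simp only [Nat.cast_add, Nat.cast_mul, Nat.cast_one, hq0, mul_zero,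
      Nat.cast_sub (show 1 ≤ q by omega), zero_sub] at h'
    linear_combination -h'
  have hN : (Nat.card I : ZMod p) = 1 := by
    have e : Nat.card I = Nat.card {j : G // R j ∧ img (V := V) j ≤ Z} :=
      Nat.card_congr (Equiv.subtypeEquivRight fun j => ⟨fun h => ⟨h, h.2.1⟩, fun h => h.1⟩)
    have h := card_roots_le S Z Z R hR hcov
    rw [← e, hZcard] at h
    have h' := congrArg (Nat.cast : ℕ → ZMod p) h
    simp only [Nat.cast_add, Nat.cast_mul, Nat.cast_one, hq0, mul_zero,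
      Nat.cast_sub (show 1 ≤ q by omega), zero_sub] at h'
    linear_combination -h'
  have hrow : ∀ i : I, ∑ j, A i j = 1 := by
    intro i
    rw [← hcount i.1 i.2]
    simp only [A, Finset.sum_boole]
    rw [← Fintype.card_subtype, ← Nat.card_eq_fintype_card]
    exact congrArg _ (Nat.card_congr (Equiv.subtypeSubtypeEquivSubtypeInter R fun j => img (V := V) j ≤ D i.1))
  have hAJ : A * J = J := by
    ext i j
    simp only [Matrix.mul_apply, J, Matrix.of_apply, mul_one]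
    exact hrow i
  have hJJ : J * J = J := by
    ext i j
    simp only [Matrix.mul_apply, J, Matrix.of_apply, mul_one, Finset.sum_const, Finset.card_univ, nsmul_eq_mul]
    rw [← Nat.card_eq_fintype_card, hN]
  have hAA : A * A = J := by
    ext i j
    rw [Matrix.mul_apply]
    by_cases hij : i = j
    · subst hij
      refine Eq.trans ?_ (hrow i)
      refine Finset.sum_congr rfl fun x _ => ?_
      simp only [A]
      by_cases hx : img (V := V) x.1 ≤ D i.1
      · rw [if_pos hx, if_pos (hsymm _ _ i.2 x.2 hx), mul_one]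
      · rw [if_neg hx, zero_mul]
    · have hij' : i.1 ≠ j.1 := fun e => hij (Subtype.ext e)
      obtain ⟨x, hxi, hxj, huniq⟩ : ∃ x : I, img (V := V) x.1 ≤ D i.1 ∧ img (V := V) x.1 ≤ D j.1 ∧
          ∀ y : I, img (V := V) y.1 ≤ D i.1 → img (V := V) y.1 ≤ D j.1 → y = x := by
        set M := D i.1 ⊓ D j.1 with hM
        have hMge : q ≤ Nat.card M := by
          have h := card_le_inf_fix_mul (D i.1) j.1
          rw [hDcard _ i.2, j.2.2.2] at h
          have e : D i.1 ⊓ fix j.1 = M := le_antisymm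
            (le_inf inf_le_left (le_inf inf_le_right (inf_le_left.trans inf_le_right)))
            (le_inf inf_le_left (inf_le_right.trans inf_le_left))
          rw [e] at h
          exact Nat.le_of_mul_le_mul_right h (by omega)
        have hMne : M ≠ ⊥ := fun e => by rw [e, AddSubgroup.card_bot] at hMge; omega
        obtain ⟨⟨z, hzi, hzj⟩, hz0⟩ := AddSubgroup.ne_bot_iff_exists_ne_zero.1 hMne
        have hz0 : z ≠ 0 := fun e => hz0 (Subtype.ext e)
        obtain ⟨x, hx, -, hzx⟩ := hcov z hzi.2 hz0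
        refine ⟨⟨x, hx⟩, (hDi _ _ i.2 hx z hzi hz0 hzx).2.2, (hDi _ _ j.2 hx z hzj hz0 hzx).2.2,
          fun y hyi hyj => by_contra fun hne => ?_⟩
        have hinf : img (V := V) y.1 ⊓ img x = ⊥ := eq_bot_iff.2 fun v hv => AddSubgroup.mem_bot.2 <|
          by_contra fun h => hne (Subtype.ext (S.eq_of_img y.2.1 hx.1 hv.1 hv.2 h))
        have hle : img (V := V) y.1 ⊔ img x ≤ M := sup_le (le_inf hyi hyj)
          (le_inf (hDi _ _ i.2 hx z hzi hz0 hzx).2.2 (hDi _ _ j.2 hx z hzj hz0 hzx).2.2)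
        have h1 := AddSubgroup.card_le_of_le hle
        rw [card_sup_of_inf_eq_bot hinf, y.2.2.2, hx.2.2] at h1
        have hMi : M = D i.1 := AddSubgroup.eq_of_le_of_card_ge inf_le_left (by rw [hDcard _ i.2]; exact h1)
        by_cases hc : Commute i.1 j.1
        · have h3 : img (V := V) i.1 ≤ D j.1 := le_inf (S.img_le_fix j.2.1 i.2.1 hc.symm hij'.symm) i.2.2.1
          have hMj : M = D j.1 := AddSubgroup.eq_of_le_of_card_ge inf_le_right (by rw [hDcard _ j.2]; exact h1)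
          exact hdiag _ i.2 (h3.trans (hMj.ge.trans hMi.le))
        · let Q : Pair G V := ⟨S, i.1, j.1, i.2.1, j.2.1, hc⟩
          have hQM : Q.U ⊓ M = ⊥ := eq_bot_iff.2 ((inf_le_inf_left _ (le_inf (inf_le_left.trans inf_le_left)
            (inf_le_right.trans inf_le_left) : M ≤ Q.F)).trans Q.U_inf_F.le)
          have h3 := AddSubgroup.card_le_of_le
            (sup_le (sup_le i.2.2.1 j.2.2.1) (inf_le_left.trans inf_le_right) : Q.U ⊔ M ≤ Z)
          rw [card_sup_of_inf_eq_bot hQM, Q.card_U, hZcard, show Nat.card (img (V := V) Q.r) = q from i.2.2.2] at h3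
          have h4 := Nat.le_of_mul_le_mul_left h3 (by positivity)
          nlinarith
      rw [Finset.sum_eq_single x]
      · simp only [A, J, Matrix.of_apply]
        rw [if_pos hxi, if_pos (hsymm _ _ j.2 x.2 hxj), mul_one]
      · intro y _ hy
        simp only [A]
        by_cases h1 : img (V := V) y.1 ≤ D i.1
        · rw [if_pos h1, if_neg fun h3 => hy (huniq y h1 (hsymm _ _ y.2 j.2 h3)), mul_zero]
        · rw [if_neg h1, zero_mul]
      · exact fun h => absurd (Finset.mem_univ x) h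
  obtain ⟨l, hl⟩ : Odd p := hp.out.odd_of_ne_two fun e => by
    obtain ⟨⟨v, hv⟩, hv0⟩ := AddSubgroup.ne_bot_iff_exists_ne_zero.1 (S.img_ne_bot P.hr)
    have h := hpV v
    rw [e, two_nsmul] at h
    exact hv0 (Subtype.ext (h2 v h))
  have hl0 : l ≠ 0 := fun e => hp.out.one_lt.ne' (by omega)
  have hJpow : ∀ n : ℕ, J ^ (n + 1) = J := fun n => by
    induction n with
    | zero => rw [pow_one]
    | succ n ih => rw [pow_succ, ih, hJJ]
  have hAp : A ^ p = J := by
    obtain ⟨l', rfl⟩ := Nat.exists_eq_succ_of_ne_zero hl0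
    have e : A ^ p = A * (A ^ 2) ^ (l' + 1) := by rw [← pow_mul, ← pow_succ']; exact congrArg (A ^ ·) hl
    rw [e, pow_two, hAA, hJpow, hAJ]
  have htr := ZMod.trace_pow_card A
  have hA0 : Matrix.trace A = 0 := Finset.sum_eq_zero fun i _ => by
    simp only [Matrix.diag, A, if_neg (hdiag _ i.2)]
  rw [hAp, hA0, zero_pow hp.out.ne_zero] at htr
  have hJtr : Matrix.trace J = 1 := by
    simp only [Matrix.trace, Matrix.diag, J, Matrix.of_apply, Finset.sum_const, Finset.card_univ, nsmul_eq_mul, mul_one]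
    rw [← Nat.card_eq_fintype_card, hN]
  rw [hJtr] at htr
  exact one_ne_zero htr

end Cfsg.Agent.BinaryAffine
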